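import Mathlib
import Cfsg.Agent.S2119

/-!
# Automorphisms of alternating groups of `3`-power order are inner
-/

set_option autoImplicit false

namespace Cfsg.Agent.Lib.LocalEven.AltAut

open Equiv Equiv.Perm Subgroup
open Cfsg.Agent.S2119 (cyc cyc_isThreeCycle cyc_a cyc_b cyc_c cyc_other cyc_conj shared_edge
  third_edge nodup_three eq_cyc cyc_rel cyc_mem_of_gen three_preserved)

variable {n : ℕ}

theorem surj_of_preserve (hn : 4 ≤ n) (ff : MulAut (alternatingGroup (Fin n)))
    (hpres : ∀ g : alternatingGroup (Fin n), (g : Perm (Fin n)).IsThreeCycle →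
      ((ff g : alternatingGroup (Fin n)) : Perm (Fin n)).IsThreeCycle) :
    ∃ σ : Perm (Fin n), MulAut.conjNormal σ = ff := by
  classical
  let z : Fin n := ⟨0, by omega⟩
  let o : Fin n := ⟨1, by omega⟩
  have hzo : z ≠ o := by simp [z, o, Fin.ext_iff]
  let I := {i : Fin n // i ≠ z ∧ i ≠ o}
  let T : I → alternatingGroup (Fin n) := fun i =>
    ⟨cyc z o i.1, (cyc_isThreeCycle hzo i.2.1.symm i.2.2.symm).mem_alternatingGroup⟩
  let x : I → Perm (Fin n) := fun i => (ff (T i) : alternatingGroup (Fin n))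
  have hx3 : ∀ i, (x i).IsThreeCycle := fun i =>
    hpres (T i) (cyc_isThreeCycle hzo i.2.1.symm i.2.2.symm)
  have hT : ∀ i j, i ≠ j → T i * T j * T i = (T j)⁻¹ := fun i j hij =>
    Subtype.ext (cyc_rel hzo i.2.1 i.2.2 j.2.1 j.2.2 (fun h => hij (Subtype.ext h)))
  have hrel : ∀ i j, i ≠ j → x i * x j * x i = (x j)⁻¹ := by
    intro i j hij
    have := congrArg ff (hT i j hij)
    simp only [map_mul, map_inv] at this
    exact congrArg Subtype.val this
  have hxne : ∀ i j, i ≠ j → x j ≠ x i ∧ x j ≠ (x i)⁻¹ := by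
    intro i j hij
    constructor
    · intro h
      have h1 : T j = T i := ff.injective (Subtype.ext h)
      have h2 : (T j : Perm (Fin n)) o = (T i : Perm (Fin n)) o := by rw [h1]
      have e1 : (T j : Perm (Fin n)) o = j.1 := cyc_b j.2.1.symm j.2.2.symm
      have e2 : (T i : Perm (Fin n)) o = i.1 := cyc_b i.2.1.symm i.2.2.symm
      rw [e1, e2] at h2
      exact hij (Subtype.ext h2.symm)
    · intro h
      have h1 : T j = (T i)⁻¹ := by
        apply ff.injective
        apply Subtype.ext
        rw [map_inv]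
        exact h
      have h2 : (T j : Perm (Fin n)) z = ((T i)⁻¹ : alternatingGroup (Fin n)).1 z := by rw [h1]
      have e1 : (T j : Perm (Fin n)) z = o := cyc_a hzo j.2.1.symm
      have e2 : ((T i)⁻¹ : alternatingGroup (Fin n)).1 z = i.1 := by
        show (cyc z o i.1)⁻¹ z = i.1
        rw [Perm.inv_eq_iff_eq]
        exact (cyc_c).symm
      rw [e1, e2] at h2
      exact i.2.2 h2.symm
  let i₂ : I := ⟨⟨2, by omega⟩, by simp [z, Fin.ext_iff], by simp [o, Fin.ext_iff]⟩
  let i₃ : I := ⟨⟨3, by omega⟩, by simp [z, Fin.ext_iff], by simp [o, Fin.ext_iff]⟩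
  have h23 : i₂ ≠ i₃ := by
    intro h
    have := congrArg (fun i : I => i.1.val) h
    simp [i₂, i₃] at this
  -- the common edge
  have hshare : ∀ i j, i ≠ j → ∃ q, x i q ≠ q ∧ x j q = x i q := fun i j hij =>
    shared_edge (hx3 i) (hx3 j) (hrel i j hij) (hxne i j hij).1 (hxne i j hij).2
  obtain ⟨q, hq1, hq2⟩ := hshare i₂ i₃ h23
  set r := x i₂ q with hr
  have hall : ∀ i, x i q = r := by
    intro i
    by_cases hi2 : i = i₂
    · rw [hi2]
    by_cases hi3 : i = i₃
    · rw [hi3, hq2]
    · have hxy : x i₂ ≠ x i₃ := (hxne i₃ i₂ (Ne.symm h23)).1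
      obtain ⟨u, hu1, hu2⟩ := hshare i₂ i (Ne.symm hi2)
      obtain ⟨v, hv1, hv2⟩ := hshare i₃ i (Ne.symm hi3)
      exact third_edge (hx3 i₂) (hx3 i₃) (hx3 i) hq1 hq2 hxy ⟨u, hu1, hu2⟩ ⟨v, hv1, hv2⟩
  have hqr : q ≠ r := hq1.symm
  have hxq : ∀ i, x i q ≠ q := fun i => by rw [hall i]; exact hq1
  have hnod : ∀ i, q ≠ r ∧ q ≠ x i r ∧ r ≠ x i r := by
    intro i
    have := nodup_three (hx3 i) (hxq i)
    rw [hall i] at this
    exact this
  have hxform : ∀ i, x i = cyc q r (x i r) := by
    intro i
    have := eq_cyc (hx3 i) (hxq i)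
    rw [hall i] at this
    exact this
  -- the permutation
  let π : Fin n → Fin n := fun i =>
    if hi : i ≠ z ∧ i ≠ o then x ⟨i, hi⟩ r else if i = z then q else r
  have hπz : π z = q := by simp [π]
  have hπo : π o = r := by
    have h1 : o ≠ z := hzo.symm
    simp [π, h1]
  have hπi : ∀ i : I, π i.1 = x i r := by
    intro i
    simp only [π]
    rw [dif_pos i.2]
  have hπinj : Function.Injective π := by
    have key : ∀ i : I, π i.1 ≠ q ∧ π i.1 ≠ r := by
      intro i
      rw [hπi]
      exact ⟨(hnod i).2.1.symm, (hnod i).2.2.symm⟩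
    intro a b hab
    by_cases haz : a = z
    · by_cases hbz : b = z
      · rw [haz, hbz]
      · by_cases hbo : b = o
        · rw [haz, hbo, hπz, hπo] at hab
          exact absurd hab hqr
        · rw [haz, hπz] at hab
          exact absurd hab.symm (key ⟨b, hbz, hbo⟩).1
    · by_cases hao : a = o
      · by_cases hbz : b = z
        · rw [hao, hbz, hπz, hπo] at hab
          exact absurd hab.symm hqr
        · by_cases hbo : b = o
          · rw [hao, hbo]
          · rw [hao, hπo] at hab
            exact absurd hab.symm (key ⟨b, hbz, hbo⟩).2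
      · by_cases hbz : b = z
        · rw [hbz, hπz] at hab
          exact absurd hab (key ⟨a, haz, hao⟩).1
        · by_cases hbo : b = o
          · rw [hbo, hπo] at hab
            exact absurd hab (key ⟨a, haz, hao⟩).2
          · have h1 := hπi ⟨a, haz, hao⟩
            have h2 := hπi ⟨b, hbz, hbo⟩
            simp only at h1 h2
            rw [h1, h2] at hab
            have h3 : x ⟨a, haz, hao⟩ = x ⟨b, hbz, hbo⟩ := by
              rw [hxform ⟨a, haz, hao⟩, hxform ⟨b, hbz, hbo⟩, hab]
            by_contra hne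
            exact (hxne ⟨b, hbz, hbo⟩ ⟨a, haz, hao⟩ (fun h => hne (congrArg (fun i : I => i.1) h).symm)).1 h3
  let σ : Perm (Fin n) := Equiv.ofBijective π (Finite.injective_iff_bijective.mp hπinj)
  have hσ : ∀ a, σ a = π a := fun a => rfl
  refine ⟨σ, ?_⟩
  -- the equalizer
  let E : Subgroup (alternatingGroup (Fin n)) :=
    MonoidHom.eqLocus (ff.toMonoidHom) ((MulAut.conjNormal σ : MulAut (alternatingGroup (Fin n))).toMonoidHom)
  have hEmem : ∀ g : alternatingGroup (Fin n), g ∈ E ↔ ff g = (MulAut.conjNormal σ : MulAut (alternatingGroup (Fin n))) g := by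
    intro g
    rfl
  have hTE : ∀ i, T i ∈ E := by
    intro i
    rw [hEmem]
    apply Subtype.ext
    rw [MulAut.conjNormal_apply]
    show x i = σ * cyc z o i.1 * σ⁻¹
    rw [cyc_conj, hσ, hσ, hσ, hπz, hπo, hπi]
    exact hxform i
  have hH : ∀ a b c : Fin n, a ≠ b → a ≠ c → b ≠ c → cyc a b c ∈ E.map (alternatingGroup (Fin n)).subtype := by
    intro a b c hab hac hbc
    refine cyc_mem_of_gen hzo _ ?_ hab hac hbc
    intro i hiz hio
    exact ⟨T ⟨i, hiz, hio⟩, hTE _, rfl⟩
  have hEtop : E = ⊤ := by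
    rw [eq_top_iff, ← alternatingGroup.closure_isThreeCycles_eq_top, Subgroup.closure_le]
    intro g hg
    have hg3 : (g : Perm (Fin n)).IsThreeCycle := hg
    have hne : (g : Perm (Fin n)).support.Nonempty := by
      rw [← Finset.card_pos, hg3.card_support]; norm_num
    obtain ⟨a, ha⟩ := hne
    have ha' := Perm.mem_support.mp ha
    have hn3 := nodup_three hg3 ha'
    have h1 := hH a _ _ hn3.1 hn3.2.1 hn3.2.2
    rw [← eq_cyc hg3 ha'] at h1
    obtain ⟨e, he, he2⟩ := h1
    have : e = g := Subtype.ext he2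
    rw [← this]
    exact he
  ext g
  have : g ∈ E := by rw [hEtop]; trivial
  rw [(hEmem g).mp this]


/-- Order-three permutations of six points have cycle type `{3}` or `{3,3}`. -/
theorem cycleType_of_order_three (g : Perm (Fin 6)) (hg : orderOf g = 3) :
    g.cycleType = {3} ∨ g.cycleType = Multiset.replicate 2 3 := by
  classical
  obtain ⟨k, hk⟩ := cycleType_prime_order (σ := g) (by rw [hg]; norm_num)
  rw [hg] at hk
  have h1 := sum_cycleType g
  have h2 := Finset.card_le_univ g.support
  rw [hk] at h1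
  simp only [Multiset.sum_replicate, smul_eq_mul, Fintype.card_fin] at h1 h2
  have hk2 : k = 0 ∨ k = 1 := by omega
  rcases hk2 with rfl | rfl
  · left
    rw [hk]
    rfl
  · right
    rw [hk]

theorem card_cycleType_three :
    (Finset.univ.filter (fun g : Perm (Fin 6) => g.cycleType = {3})).card = 40 := by
  classical
  rw [card_of_cycleType]
  simp
  decide

theorem card_cycleType_three_three :
    (Finset.univ.filter (fun g : Perm (Fin 6) => g.cycleType = Multiset.replicate 2 3)).card = 40 := by
  classical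
  rw [card_of_cycleType]
  simp
  decide

/-- The elements of `A₆` of a given cycle type, if it is even. -/
theorem ncard_of_even (m : Multiset ℕ) (hm : ∀ g : Perm (Fin 6), g.cycleType = m → g ∈ alternatingGroup (Fin 6))
    (c : ℕ) (hc : (Finset.univ.filter (fun g : Perm (Fin 6) => g.cycleType = m)).card = c) :
    {g : alternatingGroup (Fin 6) | (g : Perm (Fin 6)).cycleType = m}.ncard = c := by
  classical
  rw [← hc, ← Set.ncard_coe_finset]
  rw [← Set.ncard_image_of_injective _ (Subtype.val_injective)]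
  congr 1
  ext g
  simp only [Set.mem_image, Set.mem_setOf_eq, Finset.coe_filter, Finset.mem_univ, true_and]
  constructor
  · rintro ⟨a, ha, rfl⟩
    exact ha
  · intro h
    exact ⟨⟨g, hm g h⟩, h, rfl⟩

theorem three_preserved_six (ff : MulAut (alternatingGroup (Fin 6))) (e : ℕ) (hff : ff ^ (3 ^ e) = 1)
    (g : alternatingGroup (Fin 6)) (hg : (g : Perm (Fin 6)).IsThreeCycle) :
    ((ff g : alternatingGroup (Fin 6)) : Perm (Fin 6)).IsThreeCycle := by
  classical
  by_contra hcon
  -- orders
  have hord : ∀ h : alternatingGroup (Fin 6), orderOf (h : Perm (Fin 6)) = 3 →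
      orderOf ((ff h : alternatingGroup (Fin 6)) : Perm (Fin 6)) = 3 := by
    intro h hh
    rw [Subgroup.orderOf_coe, MulEquiv.orderOf_eq, ← Subgroup.orderOf_coe, hh]
  have hdich : ∀ h : alternatingGroup (Fin 6), (h : Perm (Fin 6)).IsThreeCycle →
      ((ff h : alternatingGroup (Fin 6)) : Perm (Fin 6)).cycleType = Multiset.replicate 2 3 := by
    intro h hh
    have hgh : IsConj g h := alternatingGroup.isThreeCycle_isConj (by simp) hg hh
    obtain ⟨c, hc⟩ := isConj_iff.1 hgh
    have h1 : ff h = ff c * ff g * (ff c)⁻¹ := by rw [← hc]; simp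
    have h2 : ((ff h : alternatingGroup (Fin 6)) : Perm (Fin 6)) =
        (ff c : Perm (Fin 6)) * (ff g : Perm (Fin 6)) * (ff c : Perm (Fin 6))⁻¹ := by
      rw [h1]
      rfl
    have h3 : ((ff g : alternatingGroup (Fin 6)) : Perm (Fin 6)).cycleType = Multiset.replicate 2 3 :=
      (cycleType_of_order_three _ (hord g hg.orderOf)).resolve_left hcon
    rw [h2, cycleType_conj, h3]
  set S₁ : Set (alternatingGroup (Fin 6)) := {h | (h : Perm (Fin 6)).cycleType = {3}} with hS₁
  set S₂ : Set (alternatingGroup (Fin 6)) :=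
    {h | (h : Perm (Fin 6)).cycleType = Multiset.replicate 2 3} with hS₂
  have hc₁ : S₁.ncard = 40 :=
    ncard_of_even _ (fun g hg => IsThreeCycle.mem_alternatingGroup hg) _ card_cycleType_three
  have hc₂ : S₂.ncard = 40 := by
    refine ncard_of_even _ (fun g hg => ?_) _ card_cycleType_three_three
    rw [mem_alternatingGroup, sign_of_cycleType, hg]
    decide
  have himg : ff '' S₁ = S₂ := by
    apply Set.eq_of_subset_of_ncard_le
    · rintro _ ⟨h, hh, rfl⟩
      exact hdich h hh
    · rw [Set.ncard_image_of_injective _ ff.injective, hc₁, hc₂]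
    · exact Set.toFinite _
  have hswap : ∀ h : alternatingGroup (Fin 6), (h : Perm (Fin 6)).cycleType = Multiset.replicate 2 3 →
      ((ff h : alternatingGroup (Fin 6)) : Perm (Fin 6)).IsThreeCycle := by
    intro h hh
    have hordh : orderOf (h : Perm (Fin 6)) = 3 := by
      rw [← lcm_cycleType, hh]
      decide
    rcases cycleType_of_order_three _ (hord h hordh) with h3 | h3
    · exact h3
    · exfalso
      have hmem : ff h ∈ S₂ := h3
      rw [← himg] at hmem
      obtain ⟨h', hh', heq⟩ := hmem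
      have : h' = h := ff.injective heq
      subst this
      have h4 : (h' : Perm (Fin 6)).cycleType = {3} := hh'
      rw [h4] at hh
      revert hh
      decide
  have hiter : ∀ k : ℕ, ((ff ^ (2 * k)) g : Perm (Fin 6)).IsThreeCycle ∧
      ((ff ^ (2 * k + 1)) g : Perm (Fin 6)).cycleType = Multiset.replicate 2 3 := by
    intro k
    induction k with
    | zero =>
      refine ⟨by simpa using hg, ?_⟩
      simpa using hdich g hg
    | succ k ih =>
      have e1 : (ff ^ (2 * (k + 1))) g = ff ((ff ^ (2 * k + 1)) g) := by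
        have : 2 * (k + 1) = 1 + (2 * k + 1) := by ring
        rw [this, pow_add, pow_one]
        rfl
      have e2 : (ff ^ (2 * (k + 1) + 1)) g = ff ((ff ^ (2 * (k + 1))) g) := by
        rw [pow_succ' ff (2 * (k + 1))]
        rfl
      have h1 : (((ff ^ (2 * (k + 1))) g : alternatingGroup (Fin 6)) : Perm (Fin 6)).IsThreeCycle := by
        rw [e1]
        exact hswap _ ih.2
      refine ⟨h1, ?_⟩
      rw [e2]
      exact hdich _ h1
  obtain ⟨k, hk⟩ : ∃ k, 3 ^ e = 2 * k + 1 := (Odd.pow (by decide : Odd 3)).exists_bit1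
  have h1 := (hiter k).2
  rw [← hk, hff] at h1
  have h2 : (g : Perm (Fin 6)).cycleType = {3} := hg
  have h3 : (g : Perm (Fin 6)).cycleType = Multiset.replicate 2 3 := h1
  rw [h2] at h3
  revert h3
  decide

/-- An automorphism of `3`-power order of `Alt(n)` is inner. -/
theorem exists_inner_of_three_power (hn : 4 ≤ n) (ff : MulAut (alternatingGroup (Fin n))) (e : ℕ)
    (hff : ff ^ (3 ^ e) = 1) :
    ∃ a : alternatingGroup (Fin n), ∀ g, ff g = a * g * a⁻¹ := by
  classical
  have hpres : ∀ g : alternatingGroup (Fin n), (g : Perm (Fin n)).IsThreeCycle →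
      ((ff g : alternatingGroup (Fin n)) : Perm (Fin n)).IsThreeCycle := by
    intro g hg
    by_cases h6 : n = 6
    · subst h6
      exact three_preserved_six ff e hff g hg
    · exact three_preserved h6 ff g hg
  obtain ⟨σ, hσ⟩ := surj_of_preserve hn ff hpres
  have h1 : σ ^ (3 ^ e) = 1 := by
    apply Cfsg.Agent.S2119.inj hn
    rw [map_pow, hσ, hff, map_one]
  have hs : sign σ = 1 := by
    have h2 : (sign σ) ^ (3 ^ e) = 1 := by rw [← map_pow, h1, map_one]
    obtain ⟨k, hk⟩ : ∃ k, 3 ^ e = 2 * k + 1 := (Odd.pow (by decide : Odd 3)).exists_bit1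
    rcases Int.units_eq_one_or (sign σ) with h3 | h3
    · exact h3
    · rw [h3, hk] at h2
      rw [pow_succ, pow_mul] at h2
      simp at h2
  refine ⟨⟨σ, mem_alternatingGroup.2 hs⟩, fun g => ?_⟩
  rw [← hσ]
  apply Subtype.ext
  rw [MulAut.conjNormal_apply]
  rfl

end Cfsg.Agent.Lib.LocalEven.AltAut
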