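/-
Isolated `p`-elements: an isolated `p`-element is central in every `p`-subgroup containing it, and
its conjugates inside a subgroup are conjugate inside the subgroup.
-/
import Mathlib.GroupTheory.Transfer
import Mathlib.GroupTheory.SpecificGroups.Cyclic
import Cfsg.Prelude.Def_IsolatedElements
import Cfsg.Prelude.Def_TwoFusion
import Cfsg.Prelude.Def_Transfer
import Cfsg.Agent.Lib.LocalEven.CharP
import Cfsg.Agent.Lib.Transfer.Basic

set_option autoImplicit false

namespace Cfsg.Agent.Lib.LocalEven.Isolated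

open Subgroup Cfsg
open scoped Pointwise

universe u

variable {G : Type u} [Group G] {p : ℕ} {x : G}

theorem isIsolated_conj (hiso : IsIsolated x) (g : G) : IsIsolated (g * x * g⁻¹) := by
  intro h hc
  have h1 : Commute (g⁻¹ * (g * x * g⁻¹) * g) (g⁻¹ * (h * (g * x * g⁻¹) * h⁻¹) * g) := by
    have e : (MulAut.conj g⁻¹) (g * x * g⁻¹) = g⁻¹ * (g * x * g⁻¹) * g := by simp
    have e' : (MulAut.conj g⁻¹) (h * (g * x * g⁻¹) * h⁻¹) = g⁻¹ * (h * (g * x * g⁻¹) * h⁻¹) * g := by
      simp
    rw [← e, ← e']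
    exact hc.map (MulAut.conj g⁻¹)
  have e1 : g⁻¹ * (g * x * g⁻¹) * g = x := by group
  have e2 : g⁻¹ * (h * (g * x * g⁻¹) * h⁻¹) * g = (g⁻¹ * h * g) * x * (g⁻¹ * h * g)⁻¹ := by group
  rw [e1, e2] at h1
  have h2 := hiso _ h1
  have h3 : h * (g * x * g⁻¹) * h⁻¹ = g * ((g⁻¹ * h * g) * x * (g⁻¹ * h * g)⁻¹) * g⁻¹ := by group
  rw [h3, h2]

section finite

variable [Finite G] [hp : Fact p.Prime]

/-- `x` isolated lying in a `p`-subgroup `R` is central in `R`. -/
theorem le_centralizer_of_isPGroup (hiso : IsIsolated x) {R : Subgroup G} (hR : IsPGroup p R)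
    (hx : x ∈ R) : R ≤ centralizer ({x} : Set G) := by
  by_contra hcon
  haveI : Group.IsNilpotent R := hR.isNilpotent
  set H : Subgroup R := (centralizer ({x} : Set G)).subgroupOf R with hH
  have hlt : H < ⊤ := by
    rw [lt_top_iff_ne_top]
    intro htop
    apply hcon
    intro r hr
    have : (⟨r, hr⟩ : R) ∈ H := by rw [htop]; trivial
    exact mem_subgroupOf.1 this
  have hn : H < normalizer (H : Set R) := Group.normalizerCondition_of_isNilpotent H hlt
  obtain ⟨r, hr, hrH⟩ := SetLike.exists_of_lt hn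
  have hxH : (⟨x, hx⟩ : R) ∈ H := by
    rw [hH, mem_subgroupOf, mem_centralizer_singleton_iff]
  have h1 : r * ⟨x, hx⟩ * r⁻¹ ∈ H := (mem_normalizer_iff.1 hr _).1 hxH
  have h2 : (r : G) * x * (r : G)⁻¹ ∈ centralizer ({x} : Set G) := by
    have := mem_subgroupOf.1 h1
    simpa using this
  rw [mem_centralizer_singleton_iff] at h2
  have h3 := hiso (r : G) (Commute.symm h2)
  apply hrH
  rw [hH, mem_subgroupOf, mem_centralizer_singleton_iff]
  rw [mul_inv_eq_iff_eq_mul] at h3
  exact h3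

theorem commute_of_mem_isPGroup (hiso : IsIsolated x) {R : Subgroup G} (hR : IsPGroup p R)
    (hx : x ∈ R) {y : G} (hy : y ∈ R) : Commute x y := by
  have := le_centralizer_of_isPGroup hiso hR hx hy
  rw [mem_centralizer_singleton_iff] at this
  exact this.symm

/-- An isolated `p`-element: conjugates inside `H` are `H`-conjugate. -/
theorem exists_conj_of_mem (hiso : IsIsolated x) (hxp : ∃ k : ℕ, orderOf x = p ^ k) (H : Subgroup G)
    (hxH : x ∈ H) (g : G) (hg : g * x * g⁻¹ ∈ H) : ∃ h ∈ H, h * x * h⁻¹ = g * x * g⁻¹ := by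
  obtain ⟨k, hk⟩ := hxp
  set a : H := ⟨x, hxH⟩ with ha
  set b : H := ⟨g * x * g⁻¹, hg⟩ with hb
  have hoa : orderOf a = p ^ k := by
    rw [← Subgroup.orderOf_coe, ha]; simpa using hk
  have hob : orderOf b = p ^ k := by
    rw [← Subgroup.orderOf_coe, hb]
    have : orderOf (g * x * g⁻¹) = orderOf x := by
      have := orderOf_injective (MulAut.conj g).toMonoidHom (MulAut.conj g).injective x
      simpa using this
    simpa using this.trans hk
  have hpa : IsPGroup p (zpowers a) := IsPGroup.of_card (n := k) (by rw [Nat.card_zpowers, hoa])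
  have hpb : IsPGroup p (zpowers b) := IsPGroup.of_card (n := k) (by rw [Nat.card_zpowers, hob])
  obtain ⟨Ra, hRa⟩ := hpa.exists_le_sylow
  obtain ⟨Rb, hRb⟩ := hpb.exists_le_sylow
  obtain ⟨c, hc⟩ := MulAction.exists_smul_eq H Rb Ra
  have hbRb : b ∈ (Rb : Subgroup H) := hRb (mem_zpowers b)
  have hcb : c * b * c⁻¹ ∈ (Ra : Subgroup H) := by
    have h1 : (Ra : Subgroup H) = MulAut.conj c • (Rb : Subgroup H) := by
      rw [← hc]; rfl
    rw [h1]
    exact ⟨b, hbRb, rfl⟩
  have haRa : a ∈ (Ra : Subgroup H) := hRa (mem_zpowers a)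
  -- pass to G
  have hT : IsPGroup p ((Ra : Subgroup H).map H.subtype) := Ra.2.map H.subtype
  have hxT : x ∈ (Ra : Subgroup H).map H.subtype := ⟨a, haRa, rfl⟩
  have hwT : ((c : G) * g) * x * ((c : G) * g)⁻¹ ∈ (Ra : Subgroup H).map H.subtype := by
    refine ⟨_, hcb, ?_⟩
    simp [hb, mul_assoc]
  have hcomm := commute_of_mem_isPGroup hiso hT hxT hwT
  have heq := hiso _ hcomm
  refine ⟨(c : G)⁻¹, H.inv_mem c.2, ?_⟩
  have h5 : (c : G) * (g * x * g⁻¹) * (c : G)⁻¹ = x := by
    calc (c : G) * (g * x * g⁻¹) * (c : G)⁻¹ = (c : G) * g * x * ((c : G) * g)⁻¹ := by group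
      _ = x := heq
  have h6 : g * x * g⁻¹ = (c : G)⁻¹ * ((c : G) * (g * x * g⁻¹) * (c : G)⁻¹) * ((c : G)⁻¹)⁻¹ := by
    group
  rw [h6, h5]

/-- Powers: `g x^k g⁻¹` commuting with `x` equals `x^k`. -/
theorem conj_zpow_eq_of_commute (hiso : IsIsolated x) (hxp : ∃ k : ℕ, orderOf x = p ^ k) (k : ℤ)
    (g : G) (hc : Commute x (g * x ^ k * g⁻¹)) : g * x ^ k * g⁻¹ = x ^ k := by
  set z := g * x ^ k * g⁻¹ with hz
  have hx1 : x ∈ centralizer ({z} : Set G) := by
    rw [mem_centralizer_singleton_iff]; exact hc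
  have hzpow : z = (g * x * g⁻¹) ^ k := by
    rw [hz]
    have := map_zpow (MulAut.conj g) x k
    simpa using this.symm
  have hx2 : g * x * g⁻¹ ∈ centralizer ({z} : Set G) := by
    rw [mem_centralizer_singleton_iff, hzpow]
    exact (Commute.zpow_right (Commute.refl _) k).eq
  obtain ⟨h, hh, hhx⟩ := exists_conj_of_mem hiso hxp _ hx1 g hx2
  have hz2 : z = h * x ^ k * h⁻¹ := by
    rw [hzpow, ← hhx]
    have := map_zpow (MulAut.conj h) x k
    simpa using this.symm
  rw [mem_centralizer_singleton_iff] at hh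
  have hz3 : h⁻¹ * z * h = z := by
    calc h⁻¹ * z * h = h⁻¹ * (z * h) := by group
      _ = h⁻¹ * (h * z) := by rw [hh]
      _ = z := by group
  calc z = h⁻¹ * z * h := hz3.symm
    _ = x ^ k := by rw [hz2]; group

/-- Part of S2969 : normalizers of `p`-subgroups containing `x` centralize `x`. -/
theorem normalizer_le_centralizer (hiso : IsIsolated x) {R : Subgroup G} (hR : IsPGroup p R)
    (hx : x ∈ R) : normalizer (R : Set G) ≤ centralizer ({x} : Set G) := by
  intro g hg
  have h1 : g * x * g⁻¹ ∈ R := (mem_normalizer_iff.1 hg _).1 hx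
  have h2 := hiso g (commute_of_mem_isPGroup hiso hR hx h1)
  rw [mem_centralizer_singleton_iff]
  rw [mul_inv_eq_iff_eq_mul] at h2
  exact h2

/-- Frattini-like: `H = N C_H(x)`. -/
theorem sup_inf_centralizer_eq (hiso : IsIsolated x) (hxp : ∃ k : ℕ, orderOf x = p ^ k)
    (H N : Subgroup G) (hNH : N ≤ H) (hHN : H ≤ normalizer (N : Set G)) (hxN : x ∈ N) :
    N ⊔ (H ⊓ centralizer ({x} : Set G)) = H := by
  apply le_antisymm
  · exact sup_le hNH inf_le_left
  · intro h hh
    have h1 : h * x * h⁻¹ ∈ N := (mem_normalizer_iff.1 (hHN hh) _).1 hxN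
    obtain ⟨n, hn, hnx⟩ := exists_conj_of_mem hiso hxp N hxN h h1
    have h2 : n⁻¹ * h ∈ H ⊓ centralizer ({x} : Set G) := by
      refine ⟨H.mul_mem (H.inv_mem (hNH hn)) hh, ?_⟩
      show n⁻¹ * h ∈ centralizer ({x} : Set G)
      rw [mem_centralizer_singleton_iff]
      have : x = n⁻¹ * h * x * h⁻¹ * n := by
        have h3 : n⁻¹ * (n * x * n⁻¹) * n = n⁻¹ * (h * x * h⁻¹) * n := by rw [hnx]
        have h4 : n⁻¹ * (n * x * n⁻¹) * n = x := by group
        rw [h4] at h3
        exact h3.trans (by group)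
      calc n⁻¹ * h * x = (n⁻¹ * h * x * h⁻¹ * n) * (n⁻¹ * h) := by group
        _ = x * (n⁻¹ * h) := by rw [← this]
    have h5 : h = n * (n⁻¹ * h) := by group
    rw [h5]
    exact mul_mem_sup hn h2

/-- Images in quotients are isolated. -/
theorem isIsolated_mk (hiso : IsIsolated x) (hxp : ∃ k : ℕ, orderOf x = p ^ k) (N : Subgroup G)
    [N.Normal] : IsIsolated (QuotientGroup.mk x : G ⧸ N) := by
  intro gbar hc
  obtain ⟨g, rfl⟩ := QuotientGroup.mk_surjective gbar
  set xb : G ⧸ N := QuotientGroup.mk x with hxb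
  set gb : G ⧸ N := QuotientGroup.mk g with hgb
  set Kb : Subgroup (G ⧸ N) := closure ({xb, gb * xb * gb⁻¹} : Set (G ⧸ N)) with hKb
  set K : Subgroup G := Kb.comap (QuotientGroup.mk' N) with hK
  have hxK : x ∈ K := by
    rw [hK, mem_comap]
    exact Subgroup.subset_closure (by simp [hxb])
  have hgK : g * x * g⁻¹ ∈ K := by
    rw [hK, mem_comap]
    apply Subgroup.subset_closure
    simp [hxb, hgb]
  obtain ⟨h, hh, hhx⟩ := exists_conj_of_mem hiso hxp K hxK g hgK
  have hKc : Kb ≤ centralizer ({xb} : Set (G ⧸ N)) := by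
    rw [hKb, closure_le]
    rintro y (rfl | rfl)
    · simp [mem_centralizer_singleton_iff]
    · simp only [SetLike.mem_coe, mem_centralizer_singleton_iff]
      exact hc.eq.symm
  have hhb : (QuotientGroup.mk h : G ⧸ N) ∈ centralizer ({xb} : Set (G ⧸ N)) := hKc (mem_comap.1 hh)
  rw [mem_centralizer_singleton_iff] at hhb
  have : (QuotientGroup.mk (h * x * h⁻¹) : G ⧸ N) = gb * xb * gb⁻¹ := by
    rw [hhx]; rfl
  rw [← this]
  show (QuotientGroup.mk h : G ⧸ N) * xb * (QuotientGroup.mk h : G ⧸ N)⁻¹ = xb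
  rw [hhb]; group

/-- In a finite cyclic group, all elements with `a ^ p = 1` lie in `⟨a⟩` when `a ≠ 1`. -/
theorem mem_zpowers_of_pow_eq_one_of_isCyclic {A : Type*} [Group A] [Finite A] [IsCyclic A]
    {a b : A} (ha : a ^ p = 1) (ha1 : a ≠ 1) (hb : b ^ p = 1) : b ∈ zpowers a := by
  classical
  haveI := Fintype.ofFinite A
  have hcard := IsCyclic.card_pow_eq_one_le (α := A) hp.out.pos
  have hoa : orderOf a = p := orderOf_eq_prime ha ha1
  by_contra hb'
  have hsub : insert b ((zpowers a : Set A).toFinset) ⊆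
      Finset.univ.filter (fun c : A => c ^ p = 1) := by
    intro c hc
    rw [Finset.mem_insert] at hc
    rw [Finset.mem_filter]
    refine ⟨Finset.mem_univ _, ?_⟩
    rcases hc with rfl | hc
    · exact hb
    · have hc' : c ∈ zpowers a := by simpa using hc
      obtain ⟨k, rfl⟩ := mem_zpowers_iff.1 hc'
      rw [← zpow_natCast, ← zpow_mul, mul_comm, zpow_mul, zpow_natCast, ha, one_zpow]
  have h1 := Finset.card_le_card hsub
  rw [Finset.card_insert_of_notMem (by simpa using hb')] at h1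
  have h2 : ((zpowers a : Set A).toFinset).card = p := by
    rw [Set.toFinset_card, ← Nat.card_eq_fintype_card]
    rw [show Nat.card ((zpowers a : Subgroup A) : Set A) = Nat.card (zpowers a) from rfl,
      Nat.card_zpowers, hoa]
  rw [h2] at h1
  have h3 : (Finset.univ.filter (fun c : A => c ^ p = 1)).card ≤ p := by
    convert hcard
  omega

/-- Elements of `p`-power order and nontrivial have a power of order `p`. -/
theorem exists_pow_orderOf_eq {c : G} (hc : ∃ k, c ^ (p ^ k) = 1) (hc1 : c ≠ 1) :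
    ∃ m : ℕ, (c ^ m) ^ p = 1 ∧ c ^ m ≠ 1 := by
  obtain ⟨k, hk⟩ := hc
  have hd : orderOf c ∣ p ^ k := orderOf_dvd_of_pow_eq_one hk
  obtain ⟨e, -, he⟩ := (Nat.dvd_prime_pow hp.out).1 hd
  have he0 : e ≠ 0 := by
    rintro rfl
    apply hc1
    rw [← orderOf_eq_one_iff, he, pow_zero]
  obtain ⟨e', rfl⟩ := Nat.exists_eq_succ_of_ne_zero he0
  refine ⟨p ^ e', ?_, ?_⟩
  · rw [← pow_mul, ← pow_succ, ← he, pow_orderOf_eq_one]
  · intro h
    have := orderOf_dvd_of_pow_eq_one h
    rw [he] at this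
    have h2 := Nat.le_of_dvd (pow_pos hp.out.pos _) this
    have h3 : p ^ e' < p ^ (e' + 1) := Nat.pow_lt_pow_right hp.out.one_lt (Nat.lt_succ_self _)
    exact absurd h2 (not_le.2 h3)

/-- Cyclic `p`-group: a `p'`-element normalizing `P` fixing a nontrivial element centralizes `P`. -/
theorem centralizes_of_cyclic {P : Subgroup G} (hPp : IsPGroup p P) (hPc : IsCyclic P) {b : G}
    (hb : b ∈ normalizer (P : Set G)) (hbc : Nat.Coprime (orderOf b) p) (hx : x ∈ P) (hx1 : x ≠ 1)
    (hbx : b * x * b⁻¹ = x) {y : G} (hy : y ∈ P) : b * y * b⁻¹ = y := by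
  by_contra hne
  have hcomm : ∀ u ∈ P, ∀ v ∈ P, u * v = v * u := by
    intro u hu v hv
    have := mul_comm' (⟨u, hu⟩ : P) ⟨v, hv⟩
    exact congrArg Subtype.val this
  set u := b * y * b⁻¹ with hu
  have huP : u ∈ P := (mem_normalizer_iff.1 hb _).1 hy
  set c := u * y⁻¹ with hc
  have hcP : c ∈ P := P.mul_mem huP (P.inv_mem hy)
  have hc1 : c ≠ 1 := by
    intro h
    apply hne
    rw [hc, mul_inv_eq_one] at h
    exact h
  obtain ⟨m, hm1, hm2⟩ := exists_pow_orderOf_eq (p := p)
    (CharP.pow_eq_one_of_isPGroup hPp hcP) hc1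
  obtain ⟨m', hm1', hm2'⟩ := exists_pow_orderOf_eq (p := p)
    (CharP.pow_eq_one_of_isPGroup hPp hx) hx1
  -- work in the cyclic group P
  have hmem : (⟨c ^ m, P.pow_mem hcP m⟩ : P) ∈ zpowers (⟨x ^ m', P.pow_mem hx m'⟩ : P) := by
    apply mem_zpowers_of_pow_eq_one_of_isCyclic (p := p)
    · exact Subtype.ext (by simpa using hm1')
    · intro h
      apply hm2'
      have := congrArg Subtype.val h
      simpa using this
    · exact Subtype.ext (by simpa using hm1)
  obtain ⟨t, ht⟩ := mem_zpowers_iff.1 hmem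
  have ht' : c ^ m = (x ^ m') ^ t := by
    have := congrArg Subtype.val ht
    simpa using this.symm
  -- b commutes with x, hence with c^m
  have hbxc : Commute b x := by
    rw [mul_inv_eq_iff_eq_mul] at hbx
    exact hbx
  have hbc0 : Commute b (c ^ m) := by
    rw [ht']
    exact ((hbxc.pow_right m').zpow_right t)
  -- c^m is a commutator
  have huy : Commute u y⁻¹ := by
    exact hcomm _ huP _ (P.inv_mem hy)
  have hcm : c ^ m = b * y ^ m * b⁻¹ * (y ^ m)⁻¹ := by
    rw [hc, huy.mul_pow, inv_pow]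
    congr 1
    rw [hu]
    have := map_pow (MulAut.conj b) y m
    simpa using this
  have hcm0 : (b * y ^ m * b⁻¹ * (y ^ m)⁻¹) = 1 := by
    apply CharP.commutator_eq_one_of_commute (p := p) _ _ hbc
    · rw [← hcm]; exact hbc0
    · rw [← hcm]
      exact CharP.pow_eq_one_of_isPGroup hPp (P.pow_mem hcP m)
  rw [← hcm] at hcm0
  exact hm2 hcm0

/-- Burnside-type conclusion in `S2970`. -/
theorem hasNormalPComplement_of_isolated (hiso : IsIsolated x) (hxp : ∃ k : ℕ, orderOf x = p ^ k)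
    (hx1 : x ≠ 1) (hcyc : ∀ P : Sylow p G, IsCyclic (P : Subgroup G)) :
    HasNormalPComplement p G := by
  obtain ⟨k, hk⟩ := hxp
  have hpx : IsPGroup p (zpowers x) := IsPGroup.of_card (n := k) (by rw [Nat.card_zpowers, hk])
  obtain ⟨P, hP⟩ := hpx.exists_le_sylow
  have hxP : x ∈ (P : Subgroup G) := hP (mem_zpowers x)
  have hPc := hcyc P
  have hcomm : ∀ u ∈ (P : Subgroup G), ∀ v ∈ (P : Subgroup G), u * v = v * u := by
    intro u hu v hv
    have := mul_comm' (⟨u, hu⟩ : (P : Subgroup G)) ⟨v, hv⟩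
    exact congrArg Subtype.val this
  have hN : normalizer ((P : Subgroup G) : Set G) ≤ centralizer ((P : Subgroup G) : Set G) := by
    intro g hg
    rw [mem_centralizer_iff]
    intro y hy
    have hy' : y ∈ (P : Subgroup G) := hy
    obtain ⟨a, b, hab, hc, ha, hb, hap, hbc⟩ := Cfsg.Agent.Lib.Transfer.Basic.exists_pPart_decomp (p := p) g
    have hzle : zpowers g ≤ normalizer ((P : Subgroup G) : Set G) := (zpowers_le).2 hg
    -- a ∈ P
    have haP : a ∈ (P : Subgroup G) := by
      have hpa : IsPGroup p (zpowers a) := by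
        obtain ⟨k', hk'⟩ := hap
        intro z
        obtain ⟨t, ht⟩ := mem_zpowers_iff.1 z.2
        refine ⟨k', Subtype.ext ?_⟩
        simp only [SubmonoidClass.coe_pow, ← ht, OneMemClass.coe_one]
        rw [← zpow_natCast, ← zpow_mul, mul_comm, zpow_mul, zpow_natCast, hk', one_zpow]
      have h1 := hpa.inf_normalizer_sylow P
      have h2 : a ∈ zpowers a ⊓ normalizer ((P : Subgroup G) : Set G) :=
        ⟨mem_zpowers a, hzle ha⟩
      have h3 : a ∈ zpowers a ⊓ (P : Subgroup G) := by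
        rw [← h1]
        exact h2
      exact h3.2
    -- b fixes x
    have hbx : b * x * b⁻¹ = x := by
      have hbC := normalizer_le_centralizer hiso (P.2) hxP (hzle hb)
      rw [mem_centralizer_singleton_iff] at hbC
      rw [hbC]; group
    have hby := centralizes_of_cyclic (p := p) P.2 hPc (hzle hb) hbc hxP hx1 hbx hy'
    have hay := hcomm a haP y hy'
    rw [mul_inv_eq_iff_eq_mul] at hby
    rw [hab]
    calc y * (a * b) = (y * a) * b := by group
      _ = (a * y) * b := by rw [hay]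
      _ = a * (y * b) := by group
      _ = a * (b * y) := by rw [hby]
      _ = a * b * y := by group
  exact ⟨P, (MonoidHom.transferSylow P hN).ker,
    MonoidHom.normal_ker _, MonoidHom.ker_transferSylow_isComplement' P hN⟩

end finite

end Cfsg.Agent.Lib.LocalEven.Isolated
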