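/-
A non-cyclic abelian group of odd automorphisms of a `2`-group, each nontrivial element fixing at
most one involution.  Part A: the unique involution, abelian invariant subgroups, the block.
-/
import Cfsg.Agent.Lib.Coprime.Generation
import Cfsg.Agent.Lib.Coprime.Action
import Cfsg.Agent.Lib.LocalEven.Util
import Cfsg.Agent.Lib.PReduced.RelNorm
import Cfsg.Agent.Lib.LocalStruct.PCoreOf

set_option autoImplicit false
set_option linter.unusedSectionVars false

namespace Cfsg.Agent.Lib.LocalEven.OddAutA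

open Subgroup
open Cfsg.Agent.Lib.LocalEven.Util
open scoped commutatorElement

variable {G : Type*} [Group G] [Finite G] {p : ℕ} [Fact p.Prime]

/-- An element of odd order commutes with what its square commutes with. -/
theorem commute_of_sq {g x : G} {m : ℕ} (hm : Odd m) (h1 : g ^ m = 1) (h2 : Commute (g * g) x) :
    Commute g x := by
  obtain ⟨q, rfl⟩ := hm
  have h3 : g * (g * g) ^ q = 1 := by
    rw [← h1, pow_succ', pow_mul, pow_two]
  have h4 : g = ((g * g) ^ q)⁻¹ := eq_inv_of_mul_eq_one_left h3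
  rw [h4]
  exact (h2.pow_left q).inv_left

/-- The hypotheses. -/
structure Hyp (p : ℕ) (K A : Subgroup G) : Prop where
  hp : p ≠ 2
  hK : IsPGroup 2 K
  hA : IsPGroup p A
  hab : ∀ a ∈ A, ∀ b ∈ A, a * b = b * a
  hnc : ¬ IsCyclic A
  hAK : A ≤ normalizer (K : Set G)
  hfaith : A ⊓ centralizer (K : Set G) = ⊥
  hfix : ∀ a ∈ A, a ≠ 1 → ∀ x ∈ K, ∀ y ∈ K, x * x = 1 → x ≠ 1 → y * y = 1 → y ≠ 1 →
    a * x = x * a → a * y = y * a → x = y

variable {K A : Subgroup G}

namespace Hyp

variable (H : Hyp p K A)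
include H

theorem odd_pow {a : G} (ha : a ∈ A) : ∃ m : ℕ, Odd m ∧ a ^ m = 1 := by
  obtain ⟨k, hk⟩ := H.hA ⟨a, ha⟩
  refine ⟨p ^ k, ?_, ?_⟩
  · exact ((Fact.out : p.Prime).odd_of_ne_two H.hp).pow
  · have := congrArg Subtype.val hk
    simpa using this

theorem commute_of_sq' {a x : G} (ha : a ∈ A) (h2 : Commute (a * a) x) : Commute a x := by
  obtain ⟨m, hm, h1⟩ := H.odd_pow ha
  exact commute_of_sq hm h1 h2

theorem coprime {P : Subgroup G} (hP : P ≤ K) : (Nat.card A).Coprime (Nat.card P) := by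
  obtain ⟨n, hn⟩ := IsPGroup.iff_card.1 H.hA
  obtain ⟨m, hm⟩ := IsPGroup.iff_card.1 (H.hK.to_le hP)
  rw [hn, hm]
  apply Nat.Coprime.pow
  exact (Nat.coprime_primes Fact.out Nat.prime_two).2 H.hp

theorem comm : IsMulCommutative A := by
  rw [isMulCommutative_iff]
  rintro ⟨a, ha⟩ ⟨b, hb⟩
  exact Subtype.ext (H.hab a ha b hb)

theorem solvable : Group.IsSolvable A := by
  have := H.hA.isNilpotent
  infer_instance

/-- Generation by fixed points. -/
theorem gen_le {P S : Subgroup G} (hPK : P ≤ K) (hPN : A ≤ normalizer (P : Set G))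
    (h : ∀ a ∈ A, a ≠ 1 → P ⊓ centralizer {a} ≤ S) : P ≤ S := by
  have := H.comm
  rw [← Cfsg.Agent.Lib.Coprime.Generation.iSup_centralizer_eq H.hnc hPN (H.coprime hPK)]
  exact iSup₂_le (fun a ha => h a ha.1 ha.2)

theorem mem_centralizer_singleton {a x : G} : x ∈ centralizer ({a} : Set G) ↔ a * x = x * a := by
  rw [mem_centralizer_iff]
  constructor
  · intro h1
    exact h1 _ rfl
  · intro h1 y hy
    rw [Set.mem_singleton_iff] at hy
    rw [hy, h1]

theorem le_normalizer_fix {P : Subgroup G} (hPN : A ≤ normalizer (P : Set G)) {a : G} (ha : a ∈ A) :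
    A ≤ normalizer ((P ⊓ centralizer ({a} : Set G) : Subgroup G) : Set G) := by
  intro b hb
  apply Cfsg.Agent.Lib.PReduced.RelNorm.mem_normalizer_inf (hPN hb)
  apply mem_normalizer_of_conj_le
  intro y hy
  rw [mem_centralizer_singleton H] at hy ⊢
  have h1 : Commute a b := H.hab a ha b hb
  have hy' : Commute a y := hy
  exact (h1.mul_right hy').mul_right h1.inv_right

/-- The involution exists. -/
theorem exists_z : ∃ z ∈ K, z ≠ 1 ∧ z * z = 1 ∧ (∀ a ∈ A, a * z = z * a) ∧
    ∀ a ∈ A, a ≠ 1 → ∀ x ∈ K, x * x = 1 → a * x = x * a → x = 1 ∨ x = z := by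
  classical
  have hKne : ¬ K ≤ ⊥ := by
    intro hle
    apply H.hnc
    have h1 : A = ⊥ := by
      rw [eq_bot_iff, ← H.hfaith]
      refine le_inf le_rfl ?_
      intro a _
      rw [mem_centralizer_iff]
      intro k hk
      have := hle hk
      rw [mem_bot] at this
      simp [this]
    rw [h1]
    infer_instance
  have hex : ∃ a ∈ A, a ≠ 1 ∧ ¬ K ⊓ centralizer {a} ≤ ⊥ := by
    by_contra hcon
    push Not at hcon
    exact hKne (H.gen_le le_rfl H.hAK hcon)
  obtain ⟨a, ha, ha1, hne⟩ := hex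
  set X : Subgroup G := K ⊓ centralizer {a} with hX
  have hX2 : IsPGroup 2 X := H.hK.to_le inf_le_left
  have hXbot : X ≠ ⊥ := fun h => hne (by rw [h])
  have hXne : Nontrivial X := by
    rw [Subgroup.nontrivial_iff_ne_bot]
    exact hXbot
  have hfact : Fact (Nat.Prime 2) := ⟨Nat.prime_two⟩
  obtain ⟨y, hy⟩ : ∃ y : X, orderOf y = 2 := by
    have hd : 2 ∣ Nat.card X := by
      obtain ⟨n, hn⟩ := IsPGroup.iff_card.1 hX2
      rw [hn]
      have hn0 : n ≠ 0 := by
        rintro rfl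
        rw [pow_zero] at hn
        exact hXbot ((Subgroup.card_eq_one).1 hn)
      exact dvd_pow_self 2 hn0
    exact exists_prime_orderOf_dvd_card' (G := X) 2 hd
  have hyo : orderOf (y : G) = 2 := by rw [Subgroup.orderOf_coe]; exact hy
  have hyy : (y : G) * y = 1 := by
    rw [← pow_two, ← hyo, pow_orderOf_eq_one]
  have hy1 : (y : G) ≠ 1 := by
    intro h
    rw [h, orderOf_one] at hyo
    omega
  have hyK : (y : G) ∈ K := (mem_inf.1 y.2).1
  have hya : a * y = y * a := (mem_centralizer_singleton H).1 (mem_inf.1 y.2).2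
  have hfixy : ∀ b ∈ A, b * y = y * b := by
    intro b hb
    have h1 : b * y * b⁻¹ ∈ K := conj_mem_of_mem_normalizer (H.hAK hb) hyK
    have h2 : (b * y * b⁻¹) * (b * y * b⁻¹) = 1 := by
      calc (b * y * b⁻¹) * (b * y * b⁻¹) = b * (y * y) * b⁻¹ := by group
        _ = 1 := by rw [hyy]; group
    have h3 : b * y * b⁻¹ ≠ 1 := by
      intro h
      apply hy1
      have : (y : G) = b⁻¹ * (b * y * b⁻¹) * b := by group
      rw [this, h]
      group
    have h4 : a * (b * y * b⁻¹) = (b * y * b⁻¹) * a := by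
      have h5 := (mem_centralizer_singleton H).1 (conj_mem_of_mem_normalizer
        (H.le_normalizer_fix (P := K) H.hAK ha hb) y.2 |> fun h => (mem_inf.1 h).2)
      exact h5
    have h6 := H.hfix a ha ha1 _ h1 _ hyK h2 h3 hyy hy1 h4 hya
    calc b * y = (b * y * b⁻¹) * b := by group
      _ = y * b := by rw [h6]
  refine ⟨y, hyK, hy1, hyy, hfixy, ?_⟩
  intro c hc hc1 x hx hxx hcx
  by_cases hx1 : x = 1
  · exact Or.inl hx1
  · exact Or.inr (H.hfix c hc hc1 x hx _ hyK hxx hx1 hyy hy1 hcx (hfixy c hc))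

end Hyp

/-- An odd-order element normalizing an abelian `2`-group with at most one involution, which it
fixes, centralizes it. -/
theorem fix_of_abelian_unique {B : Subgroup G} {z g : G} {m : ℕ} (hB2 : IsPGroup 2 B)
    (hab : ∀ x ∈ B, ∀ y ∈ B, x * y = y * x) (hinv : ∀ x ∈ B, x * x = 1 → x = 1 ∨ x = z)
    (hg : g ∈ normalizer (B : Set G)) (hgz : g * z = z * g) (hm : Odd m) (hg1 : g ^ m = 1) :
    ∀ x ∈ B, g * x = x * g := by
  have key : ∀ k : ℕ, ∀ x ∈ B, x ^ (2 ^ k) = 1 → g * x = x * g := by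
    intro k
    induction k with
    | zero =>
      intro x _ hx
      simp only [pow_zero, pow_one] at hx
      simp [hx]
    | succ k ih =>
      intro x hx hxk
      have h1 : g * (x * x) = (x * x) * g := by
        apply ih (x * x) (mul_mem hx hx)
        rw [← pow_two, ← pow_mul, ← pow_succ']
        exact hxk
      have hy : g * x * g⁻¹ ∈ B := conj_mem_of_mem_normalizer hg hx
      set c := x⁻¹ * (g * x * g⁻¹) with hc
      have hcB : c ∈ B := mul_mem (inv_mem hx) hy
      have h2 : c * c = 1 := by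
        have h3 : (g * x * g⁻¹) * (g * x * g⁻¹) = x * x := by
          calc (g * x * g⁻¹) * (g * x * g⁻¹) = (g * (x * x)) * g⁻¹ := by group
            _ = (x * x) * g * g⁻¹ := by rw [h1]
            _ = x * x := by group
        have h4 := hab x⁻¹ (inv_mem hx) _ hy
        calc c * c = x⁻¹ * ((g * x * g⁻¹) * x⁻¹) * (g * x * g⁻¹) := by rw [hc]; group
          _ = x⁻¹ * (x⁻¹ * (g * x * g⁻¹)) * (g * x * g⁻¹) := by rw [h4]
          _ = x⁻¹ * x⁻¹ * ((g * x * g⁻¹) * (g * x * g⁻¹)) := by group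
          _ = 1 := by rw [h3]; group
      have hgx : g * x * g⁻¹ = x * c := by rw [hc]; group
      rcases hinv c hcB h2 with h5 | h5
      · rw [h5, mul_one] at hgx
        calc g * x = (g * x * g⁻¹) * g := by group
          _ = x * g := by rw [hgx]
      · have hzz : z * z = 1 := by rw [← h5]; exact h2
        have hgg : Commute (g * g) x := by
          show g * g * x = x * (g * g)
          have h6 : g * z * g⁻¹ = z := by
            rw [hgz]; group
          have h7 : (g * g) * x * (g * g)⁻¹ = x := by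
            calc (g * g) * x * (g * g)⁻¹ = g * (g * x * g⁻¹) * g⁻¹ := by group
              _ = g * (x * z) * g⁻¹ := by rw [hgx, h5]
              _ = (g * x * g⁻¹) * (g * z * g⁻¹) := by group
              _ = x * z * z := by rw [hgx, h5, h6]
              _ = x := by rw [mul_assoc, hzz, mul_one]
          calc g * g * x = (g * g) * x * (g * g)⁻¹ * (g * g) := by group
            _ = x * (g * g) := by rw [h7]
        exact commute_of_sq hm hg1 hgg
  intro x hx
  obtain ⟨k, hk⟩ := hB2 ⟨x, hx⟩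
  apply key k x hx
  have := congrArg Subtype.val hk
  simpa using this


theorem exists_involution {X : Subgroup G} (hX2 : IsPGroup 2 X) (hXbot : X ≠ ⊥) :
    ∃ y ∈ X, y ≠ 1 ∧ y * y = 1 := by
  have hfact : Fact (Nat.Prime 2) := ⟨Nat.prime_two⟩
  obtain ⟨y, hy⟩ : ∃ y : X, orderOf y = 2 := by
    have hd : 2 ∣ Nat.card X := by
      obtain ⟨n, hn⟩ := IsPGroup.iff_card.1 hX2
      rw [hn]
      have hn0 : n ≠ 0 := by
        rintro rfl
        rw [pow_zero] at hn
        exact hXbot ((Subgroup.card_eq_one).1 hn)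
      exact dvd_pow_self 2 hn0
    exact exists_prime_orderOf_dvd_card' (G := X) 2 hd
  have hyo : orderOf (y : G) = 2 := by rw [Subgroup.orderOf_coe]; exact hy
  refine ⟨y, y.2, ?_, ?_⟩
  · intro h
    rw [h, orderOf_one] at hyo
    omega
  · rw [← pow_two, ← hyo, pow_orderOf_eq_one]

/-- The involution together with the hypotheses. -/
structure HasZ (p : ℕ) (K A : Subgroup G) (z : G) : Prop where
  hH : Hyp p K A
  hzK : z ∈ K
  hz1 : z ≠ 1
  hzz : z * z = 1
  hzA : ∀ a ∈ A, a * z = z * a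
  huniq : ∀ a ∈ A, a ≠ 1 → ∀ x ∈ K, x * x = 1 → a * x = x * a → x = 1 ∨ x = z

theorem Hyp.exists_hasZ (H : Hyp p K A) : ∃ z, HasZ p K A z := by
  obtain ⟨z, h1, h2, h3, h4, h5⟩ := H.exists_z
  exact ⟨z, H, h1, h2, h3, h4, h5⟩

namespace HasZ

variable {z : G} (hZ : HasZ p K A z)
include hZ

/-- Abelian invariant subgroups are centralized. -/
theorem comm_of_abelian {B : Subgroup G} (hBK : B ≤ K) (hBN : A ≤ normalizer (B : Set G))
    (hab : ∀ x ∈ B, ∀ y ∈ B, x * y = y * x) : ∀ a ∈ A, ∀ x ∈ B, a * x = x * a := by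
  have hH := hZ.hH
  have h1 : B ≤ centralizer (A : Set G) := by
    apply hH.gen_le hBK hBN
    intro a ha ha1 x hx
    rw [mem_centralizer_iff]
    intro g hg
    obtain ⟨m, hm, hg1⟩ := hH.odd_pow hg
    refine fix_of_abelian_unique (B := B ⊓ centralizer {a}) (z := z) (hH.hK.to_le (inf_le_left.trans hBK))
      (fun x hx y hy => hab x (mem_inf.1 hx).1 y (mem_inf.1 hy).1)
      (fun y hy hyy => hZ.huniq a ha ha1 y (hBK (mem_inf.1 hy).1) hyy
        ((hH.mem_centralizer_singleton).1 (mem_inf.1 hy).2))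
      (hH.le_normalizer_fix hBN ha hg) (hZ.hzA g hg) hm hg1 x hx
  intro a ha x hx
  exact mem_centralizer_iff.1 (h1 hx) a ha

theorem exists_ne_one : ∃ a ∈ A, a ≠ 1 := by
  by_contra hcon
  push Not at hcon
  apply hZ.hH.hnc
  have : A = ⊥ := (eq_bot_iff_forall A).2 hcon
  rw [this]
  infer_instance

/-- `z` is central in `K`. -/
theorem hzc : ∀ x ∈ K, x * z = z * x := by
  have hH := hZ.hH
  set X : Subgroup G := K ⊓ centralizer (K : Set G) with hX
  have hK0 : K ≠ ⊥ := by
    intro h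
    apply hZ.hz1
    have := hZ.hzK
    rw [h, mem_bot] at this
    exact this
  have hXb : X ≠ ⊥ := Cfsg.Agent.Lib.LocalStruct.PCoreOf.center_ne_bot hH.hK hK0
  have hfact : Fact (Nat.Prime 2) := ⟨Nat.prime_two⟩
  obtain ⟨y, hy, hy1, hyy⟩ := exists_involution (hH.hK.to_le inf_le_left) hXb
  have hab : ∀ x ∈ X, ∀ y ∈ X, x * y = y * x := fun x hx y hy =>
    (mem_centralizer_iff.1 (mem_inf.1 hy).2 x (mem_inf.1 hx).1)
  have hN : A ≤ normalizer (X : Set G) := fun a ha =>
    Cfsg.Agent.Lib.PReduced.RelNorm.mem_normalizer_inf (hH.hAK ha)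
      (Cfsg.Agent.Lib.PReduced.RelNorm.mem_normalizer_centralizer (hH.hAK ha))
  have hfixy := hZ.comm_of_abelian inf_le_left hN hab
  obtain ⟨a, ha, ha1⟩ := hZ.exists_ne_one
  rcases hZ.huniq a ha ha1 y (mem_inf.1 hy).1 hyy (hfixy a ha y hy) with h | h
  · exact absurd h hy1
  · intro x hx
    have := mem_centralizer_iff.1 (mem_inf.1 hy).2 x hx
    rw [h] at this
    exact this

end HasZ

/-- A quaternion block. -/
structure IsBlock (A : Subgroup G) (z : G) (Y : Subgroup G) : Prop where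
  hYN : A ≤ normalizer (Y : Set G)
  hzY : z ∈ Y
  hinv : ∀ y ∈ Y, y * y = 1 → y = 1 ∨ y = z
  hsq : ∀ y ∈ Y, y ≠ 1 → y ≠ z → y * y = z
  hcen : ∀ y ∈ Y, (∀ a ∈ A, a * y = y * a) → y = 1 ∨ y = z
  hirr : ∀ M : Subgroup G, M ≤ Y → A ≤ normalizer (M : Set G) → M = Y ∨ ∀ x ∈ M, x = 1 ∨ x = z
  hcomm : ∀ u ∈ Y, ∀ v ∈ Y, u ≠ 1 → u ≠ z → v ≠ 1 → v ≠ z → u * v ≠ 1 → u * v ≠ z →
    v * u = z * (u * v)
  hnc : ∃ a ∈ A, ∃ y ∈ Y, a * y ≠ y * a
  hker : ∃ a ∈ A, a ≠ 1 ∧ ∀ y ∈ Y, a * y = y * a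
  hzc : ∀ y ∈ Y, y * z = z * y
  hpair : ∃ x ∈ Y, ∃ y ∈ Y, x ≠ 1 ∧ x ≠ z ∧ y ≠ 1 ∧ y ≠ z ∧ x * y ≠ 1 ∧ x * y ≠ z ∧
    y * x = z * (x * y) ∧ ∀ w ∈ Y, w = 1 ∨ w = z ∨ w = x ∨ w = x * z ∨ w = y ∨ w = y * z ∨
      w = x * y ∨ w = x * y * z

namespace HasZ

variable {z : G} (hZ : HasZ p K A z)
include hZ

theorem exists_block {B : Subgroup G} (hBK : B ≤ K) (hBN : A ≤ normalizer (B : Set G))
    (hB : ¬ A ≤ centralizer (B : Set G)) : ∃ Y ≤ B, IsBlock A z Y := by
  classical
  have hH := hZ.hH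
  have hfact : Fact (Nat.Prime 2) := ⟨Nat.prime_two⟩
  obtain ⟨Y, hYB, hmin⟩ := Finite.exists_le_minimal
    (p := fun Y : Subgroup G => A ≤ normalizer (Y : Set G) ∧ ¬ A ≤ centralizer (Y : Set G))
    (a := B) ⟨hBN, hB⟩
  obtain ⟨hYN, hYc⟩ := hmin.prop
  have hYK : Y ≤ K := hYB.trans hBK
  have hY2 : IsPGroup 2 Y := hH.hK.to_le hYK
  refine ⟨Y, hYB, ?_⟩
  have hprop : ∀ M : Subgroup G, M ≤ Y → A ≤ normalizer (M : Set G) → M ≠ Y →
      A ≤ centralizer (M : Set G) := by
    intro M hMY hMN hne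
    by_contra hcon
    exact hne (le_antisymm hMY (hmin.le_of_le ⟨hMN, hcon⟩ hMY))
  set D : Subgroup G := Y ⊓ centralizer (A : Set G) with hD
  have hflip : ∀ M : Subgroup G, A ≤ centralizer (M : Set G) → M ≤ centralizer (A : Set G) := by
    intro M h x hx
    rw [mem_centralizer_iff]
    intro a ha
    exact (mem_centralizer_iff.1 (h ha) x hx).symm
  have hprop' : ∀ M : Subgroup G, M ≤ Y → A ≤ normalizer (M : Set G) → M ≠ Y → M ≤ D :=
    fun M hMY hMN hne => le_inf hMY (hflip M (hprop M hMY hMN hne))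
  have hDlt : D < Y := by
    refine lt_of_le_of_ne inf_le_left ?_
    intro h
    apply hYc
    intro a ha
    rw [mem_centralizer_iff]
    intro y hy
    rw [← h] at hy
    exact (mem_centralizer_iff.1 (mem_inf.1 hy).2 a ha).symm
  have hAD : A ≤ normalizer (D : Set G) := fun a ha =>
    Cfsg.Agent.Lib.PReduced.RelNorm.mem_normalizer_inf (hYN ha)
      (Cfsg.Agent.Lib.PReduced.RelNorm.mem_normalizer_centralizer (le_normalizer ha))
  have hYD : Y ≤ normalizer (D : Set G) := by
    have hlt := lt_normalizer_inf hY2 hDlt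
    have hAM : A ≤ normalizer ((normalizer (D : Set G) ⊓ Y : Subgroup G) : Set G) := fun a ha =>
      Cfsg.Agent.Lib.PReduced.RelNorm.mem_normalizer_inf (le_normalizer (hAD ha)) (hYN ha)
    by_contra hcon
    have hne : normalizer (D : Set G) ⊓ Y ≠ Y := by
      intro h
      exact hcon (h ▸ inf_le_left)
    exact absurd (hprop' _ inf_le_right hAM hne) (not_le_of_gt hlt)
  have hcomY : ⁅Y, A⁆ = Y := by
    have hle : ⁅Y, A⁆ ≤ Y := Cfsg.Agent.Lib.Coprime.Action.commutator_le_of_le_normalizer hYN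
    by_contra hne
    have h1 := hprop _ hle (Cfsg.Agent.Lib.Coprime.Action.le_normalizer_commutator_right Y A) hne
    have h2 : ⁅⁅Y, A⁆, A⁆ = ⁅Y, A⁆ := Cfsg.Agent.Lib.Coprime.Action.commutator_commutator_eq hYN
      (hH.coprime hYK) (Or.inl hH.solvable)
    have h3 : ⁅⁅Y, A⁆, A⁆ = ⊥ := by
      rw [commutator_eq_bot_iff_le_centralizer]
      exact hflip _ h1
    rw [h3] at h2
    apply hYc
    rw [← commutator_eq_bot_iff_le_centralizer, commutator_comm]
    exact h2.symm
  have hDY : ∀ d ∈ D, ∀ y ∈ Y, d * y = y * d := by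
    have h1 : ⁅⁅A, D⁆, Y⁆ = ⊥ := by
      have : ⁅A, D⁆ = ⊥ := by
        rw [commutator_comm, commutator_eq_bot_iff_le_centralizer]
        exact inf_le_right
      rw [this, commutator_bot_left]
    have h2 : ⁅⁅D, Y⁆, A⁆ = ⊥ := by
      rw [commutator_eq_bot_iff_le_centralizer]
      exact (Cfsg.Agent.Lib.Coprime.Action.commutator_le_of_le_normalizer hYD).trans inf_le_right
    have h3 : ⁅⁅Y, A⁆, D⁆ = ⊥ := commutator_commutator_eq_bot_of_rotate h1 h2
    rw [hcomY, commutator_eq_bot_iff_le_centralizer] at h3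
    intro d hd y hy
    exact (mem_centralizer_iff.1 (h3 hy) d hd)
  have hnonab : ¬ ∀ x ∈ Y, ∀ y ∈ Y, x * y = y * x := by
    intro hab
    have := hZ.comm_of_abelian hYK hYN hab
    apply hYc
    intro a ha
    rw [mem_centralizer_iff]
    intro y hy
    exact (this a ha y hy).symm
  have hker : ∃ a ∈ A, a ≠ 1 ∧ ∀ y ∈ Y, a * y = y * a := by
    by_contra hcon
    push Not at hcon
    have : Y ≤ D := by
      apply hH.gen_le hYK hYN
      intro a ha ha1
      apply hprop' _ inf_le_left (hH.le_normalizer_fix hYN ha)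
      intro h
      obtain ⟨y, hy, hne⟩ := hcon a ha ha1
      rw [← h] at hy
      exact hne ((hH.mem_centralizer_singleton).1 (mem_inf.1 hy).2)
    exact absurd this (not_le_of_gt hDlt)
  obtain ⟨a₁, ha₁, ha₁1, ha₁Y⟩ := hker
  have hinv : ∀ y ∈ Y, y * y = 1 → y = 1 ∨ y = z := fun y hy hyy =>
    hZ.huniq a₁ ha₁ ha₁1 y (hYK hy) hyy (ha₁Y y hy)
  have hYbot : Y ≠ ⊥ := by
    intro h
    rw [h] at hDlt
    exact not_lt_bot hDlt
  have hzY : z ∈ Y := by
    obtain ⟨y, hy, hy1, hyy⟩ := exists_involution hY2 hYbot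
    rcases hinv y hy hyy with h | h
    · exact absurd h hy1
    · exact h ▸ hy
  have hzD : z ∈ D := mem_inf.2 ⟨hzY, mem_centralizer_iff.2 (fun a ha => hZ.hzA a ha)⟩
  have hcYY : ⁅Y, Y⁆ ≤ D := by
    apply hprop' _ (Cfsg.Agent.Lib.Coprime.Action.commutator_le_of_le_normalizer
      (le_normalizer : Y ≤ normalizer (Y : Set G)))
    · exact fun a ha => mem_normalizer_commutator (hYN ha) (hYN ha)
    · intro h
      exact hYbot (eq_bot_of_le_commutator_of_isPGroup hY2 le_rfl (le_of_eq h.symm))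
  have hcYD : ∀ x ∈ Y, ∀ y ∈ Y, ⁅x, y⁆ ∈ D := fun x hx y hy =>
    hcYY (commutator_mem_commutator hx hy)
  -- squares lie in `D`
  have hsqD : ∀ y ∈ Y, y * y ∈ D := by
    let M : Subgroup G :=
      { carrier := {y | y ∈ Y ∧ y * y ∈ D}
        mul_mem' := by
          rintro x y ⟨hx, hxx⟩ ⟨hy, hyy⟩
          refine ⟨mul_mem hx hy, ?_⟩
          have h1 : x * ⁅y, x⁆ * x⁻¹ ∈ D :=
            conj_mem_of_mem_normalizer (hYD hx) (hcYD y hy x hx)
          have h2 : (x * y) * (x * y) = (x * ⁅y, x⁆ * x⁻¹) * (x * x) * (y * y) := by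
            simp only [commutatorElement_def]
            group
          rw [h2]
          exact mul_mem (mul_mem h1 hxx) hyy
        one_mem' := ⟨one_mem _, by simp [one_mem]⟩
        inv_mem' := by
          rintro x ⟨hx, hxx⟩
          refine ⟨inv_mem hx, ?_⟩
          have : x⁻¹ * x⁻¹ = (x * x)⁻¹ := by group
          rw [this]
          exact inv_mem hxx }
    have hMY : M ≤ Y := fun y hy => hy.1
    have hMN : A ≤ normalizer (M : Set G) := by
      intro a ha
      apply mem_normalizer_of_conj_le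
      rintro y ⟨hy, hyy⟩
      refine ⟨conj_mem_of_mem_normalizer (hYN ha) hy, ?_⟩
      have : (a * y * a⁻¹) * (a * y * a⁻¹) = a * (y * y) * a⁻¹ := by group
      rw [this]
      exact conj_mem_of_mem_normalizer (hAD ha) hyy
    -- an element outside `D` with square in `D`
    have hex : ∃ x ∈ Y, x ∉ D ∧ x * x ∈ D := by
      obtain ⟨y, hy, hyD⟩ := SetLike.exists_of_lt hDlt
      have key : ∀ k : ℕ, ∀ y ∈ Y, y ∉ D → y ^ (2 ^ k) = 1 → ∃ x ∈ Y, x ∉ D ∧ x * x ∈ D := by
        intro k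
        induction k with
        | zero =>
          intro y _ hyD h1
          simp only [pow_zero, pow_one] at h1
          exact absurd (h1 ▸ one_mem D) hyD
        | succ k ih =>
          intro y hy hyD h1
          by_cases hyy : y * y ∈ D
          · exact ⟨y, hy, hyD, hyy⟩
          · apply ih (y * y) (mul_mem hy hy) hyy
            rw [← pow_two, ← pow_mul, ← pow_succ']
            exact h1
      obtain ⟨k, hk⟩ := hY2 ⟨y, hy⟩
      apply key k y hy hyD
      have := congrArg Subtype.val hk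
      simpa using this
    obtain ⟨x, hx, hxD, hxx⟩ := hex
    have hMeq : M = Y := by
      by_contra hne
      exact hxD (hprop' M hMY hMN hne ⟨hx, hxx⟩)
    intro y hy
    rw [← hMeq] at hy
    exact hy.2
  -- commutators have square one
  have hc2 : ∀ x ∈ Y, ∀ y ∈ Y, ⁅x, y⁆ = 1 ∨ ⁅x, y⁆ = z := by
    intro x hx y hy
    set c := ⁅x, y⁆ with hc
    have hcD := hcYD x hx y hy
    have hcY : c ∈ Y := (mem_inf.1 hcD).1
    apply hinv c hcY
    have h1 : x * y * x⁻¹ = c * y := by
      rw [hc]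
      simp only [commutatorElement_def]
      group
    have h2 : (x * y * x⁻¹) * (x * y * x⁻¹) = y * y := by
      calc (x * y * x⁻¹) * (x * y * x⁻¹) = x * (y * y) * x⁻¹ := by group
        _ = (y * y) * x * x⁻¹ := by rw [← hDY _ (hsqD y hy) x hx]
        _ = y * y := by group
    rw [h1] at h2
    have h3 : c * y * (c * y) = (c * c) * (y * y) := by
      calc c * y * (c * y) = c * (y * c) * y := by group
        _ = c * (c * y) * y := by rw [hDY c hcD y hy]
        _ = (c * c) * (y * y) := by group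
    rw [h3] at h2
    exact mul_right_cancel (h2.trans (one_mul _).symm)
  -- `D` has order two
  have hDz : ∀ d ∈ D, d = 1 ∨ d = z := by
    by_contra hcon
    push Not at hcon
    obtain ⟨d₀, hd₀, hd₀1, hd₀z⟩ := hcon
    -- a square root of `z` in `D`
    have hroot : ∃ c₀ ∈ D, c₀ * c₀ = z := by
      have key : ∀ k : ℕ, ∀ d ∈ D, d ≠ 1 → d ≠ z → d ^ (2 ^ k) = 1 → ∃ c₀ ∈ D, c₀ * c₀ = z := by
        intro k
        induction k with
        | zero =>
          intro d _ h1 _ h2
          simp only [pow_zero, pow_one] at h2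
          exact absurd h2 h1
        | succ k ih =>
          intro d hd h1 h2 h3
          have hdY : d ∈ Y := (mem_inf.1 hd).1
          by_cases hdd : d * d = 1
          · rcases hinv d hdY hdd with h | h
            · exact absurd h h1
            · exact absurd h h2
          · by_cases hdz : d * d = z
            · exact ⟨d, hd, hdz⟩
            · apply ih (d * d) (mul_mem hd hd) hdd hdz
              rw [← pow_two, ← pow_mul, ← pow_succ']
              exact h3
      obtain ⟨k, hk⟩ := hY2 ⟨d₀, (mem_inf.1 hd₀).1⟩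
      apply key k d₀ hd₀ hd₀1 hd₀z
      have := congrArg Subtype.val hk
      simpa using this
    obtain ⟨c₀, hc₀, hc₀z⟩ := hroot
    have hDab : ∀ a ∈ D, ∀ b ∈ D, a * b = b * a := fun a ha b hb => hDY a ha b (mem_inf.1 hb).1
    have hform : ∀ e : G, (e = 1 ∨ e = z) → ∃ f ∈ D, f * f = e := by
      rintro e (rfl | rfl)
      · exact ⟨1, one_mem _, by group⟩
      · exact ⟨c₀, hc₀, hc₀z⟩
    let S : Subgroup G :=
      { carrier := {y | y ∈ Y ∧ ∃ d ∈ D, y * y = d * d}
        mul_mem' := by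
          rintro x y ⟨hx, d₁, hd₁, hxx⟩ ⟨hy, d₂, hd₂, hyy⟩
          refine ⟨mul_mem hx hy, ?_⟩
          obtain ⟨f, hf, hff⟩ := hform _ (hc2 y hy x hx)
          refine ⟨f * d₁ * d₂, mul_mem (mul_mem hf hd₁) hd₂, ?_⟩
          have h1 : y * x = ⁅y, x⁆ * (x * y) := by
            simp only [commutatorElement_def]
            group
          have h2 : x * y * (x * y) = ⁅y, x⁆ * (x * x) * (y * y) := by
            have h3 := hDY _ (hcYD y hy x hx) x hx
            calc x * y * (x * y) = x * (y * x) * y := by group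
              _ = x * (⁅y, x⁆ * (x * y)) * y := by rw [h1]
              _ = (x * ⁅y, x⁆) * x * y * y := by group
              _ = (⁅y, x⁆ * x) * x * y * y := by rw [h3]
              _ = ⁅y, x⁆ * (x * x) * (y * y) := by group
          rw [h2, hxx, hyy, ← hff]
          have h4 := hDab f hf d₁ hd₁
          have h5 := hDab f hf d₂ hd₂
          have h6 := hDab d₁ hd₁ d₂ hd₂
          have c1 : Commute d₁ f := h4.symm
          have c2 : Commute d₂ (f * d₁) :=
            Commute.mul_right (show Commute d₂ f from h5.symm) (show Commute d₂ d₁ from h6.symm)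
          calc f * f * (d₁ * d₁) * (d₂ * d₂) = (f * d₁) * (f * d₁) * (d₂ * d₂) := by
                rw [c1.mul_mul_mul_comm]
            _ = f * d₁ * d₂ * (f * d₁ * d₂) := (c2.mul_mul_mul_comm _ _).symm
        one_mem' := ⟨one_mem _, 1, one_mem _, by group⟩
        inv_mem' := by
          rintro x ⟨hx, d, hd, hxx⟩
          refine ⟨inv_mem hx, d⁻¹, inv_mem hd, ?_⟩
          have h1 : x⁻¹ * x⁻¹ = (x * x)⁻¹ := by group
          have h2 : d⁻¹ * d⁻¹ = (d * d)⁻¹ := by group
          rw [h1, h2, hxx] }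
    have hYS : Y ≤ S := by
      conv_lhs => rw [← hcomY]
      rw [commutator_le]
      intro y hy a ha
      set w := a * y * a⁻¹ with hw
      have hwY : w ∈ Y := conj_mem_of_mem_normalizer (hYN ha) hy
      have hww : w * w = y * y := by
        have h1 : a * (y * y) = (y * y) * a :=
          (mem_centralizer_iff.1 (mem_inf.1 (hsqD y hy)).2 a ha)
        calc w * w = a * (y * y) * a⁻¹ := by rw [hw]; group
          _ = (y * y) * a * a⁻¹ := by rw [h1]
          _ = y * y := by group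
      have ht : ⁅y, a⁆ = y * w⁻¹ := by
        rw [hw]
        simp only [commutatorElement_def]
        group
      rw [ht]
      refine ⟨mul_mem hy (inv_mem hwY), ?_⟩
      obtain ⟨f, hf, hff⟩ := hform _ (hc2 w⁻¹ (inv_mem hwY) y hy)
      refine ⟨f, hf, ?_⟩
      rw [hff]
      have h3 := hDY _ (hcYD w⁻¹ (inv_mem hwY) y hy) y hy
      have h1 : w⁻¹ * y = ⁅w⁻¹, y⁆ * (y * w⁻¹) := by
        simp only [commutatorElement_def]
        group
      calc y * w⁻¹ * (y * w⁻¹) = y * (w⁻¹ * y) * w⁻¹ := by group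
        _ = y * (⁅w⁻¹, y⁆ * (y * w⁻¹)) * w⁻¹ := by rw [h1]
        _ = (y * ⁅w⁻¹, y⁆) * y * w⁻¹ * w⁻¹ := by group
        _ = (⁅w⁻¹, y⁆ * y) * y * w⁻¹ * w⁻¹ := by rw [h3]
        _ = ⁅w⁻¹, y⁆ * (y * y) * (w * w)⁻¹ := by group
        _ = ⁅w⁻¹, y⁆ := by rw [hww]; group
    have hYD' : Y ≤ D := by
      intro y hy
      obtain ⟨-, d, hd, hyd⟩ := hYS hy
      have hdY : d ∈ Y := (mem_inf.1 hd).1
      have h1 : (y * d⁻¹) * (y * d⁻¹) = 1 := by
        have h2 : d⁻¹ * y = y * d⁻¹ := hDY _ (inv_mem hd) y hy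
        calc (y * d⁻¹) * (y * d⁻¹) = y * (d⁻¹ * y) * d⁻¹ := by group
          _ = y * (y * d⁻¹) * d⁻¹ := by rw [h2]
          _ = (y * y) * (d * d)⁻¹ := by group
          _ = 1 := by rw [hyd]; group
      have h4 : y = (y * d⁻¹) * d := by group
      rcases hinv _ (mul_mem hy (inv_mem hdY)) h1 with h | h
      · rw [h4, h, one_mul]
        exact hd
      · rw [h4, h]
        exact mul_mem hzD hd
    exact absurd hYD' (not_le_of_gt hDlt)
  have hsq : ∀ y ∈ Y, y ≠ 1 → y ≠ z → y * y = z := by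
    intro y hy hy1 hyz
    rcases hDz _ (hsqD y hy) with h | h
    · rcases hinv y hy h with h' | h'
      · exact absurd h' hy1
      · exact absurd h' hyz
    · exact h
  have hzcY : ∀ y ∈ Y, y * z = z * y := fun y hy => (hDY z hzD y hy).symm
  have hinvz : ∀ t ∈ Y, t ≠ 1 → t ≠ z → ∀ s, t * s = 1 → s = t * z := by
    intro t ht ht1 htz s hs
    apply mul_left_cancel (a := t)
    rw [hs, ← mul_assoc, hsq t ht ht1 htz, hZ.hzz]
  have hinvz2 : ∀ t ∈ Y, t ≠ 1 → t ≠ z → ∀ s, t * s = z → s = t := by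
    intro t ht ht1 htz s hs
    apply mul_left_cancel (a := t)
    rw [hs, hsq t ht ht1 htz]
  have hcomm : ∀ u ∈ Y, ∀ v ∈ Y, u ≠ 1 → u ≠ z → v ≠ 1 → v ≠ z → u * v ≠ 1 → u * v ≠ z →
      v * u = z * (u * v) := by
    intro u hu v hv hu1 huz hv1 hvz huv1 huvz
    have h1 := hsq u hu hu1 huz
    have h2 := hsq v hv hv1 hvz
    have h3 := hsq (u * v) (mul_mem hu hv) huv1 huvz
    have h4 : u⁻¹ = u * z := by
      apply inv_eq_of_mul_eq_one_right
      rw [← mul_assoc, h1, hZ.hzz]
    have h5 : v⁻¹ = v * z := by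
      apply inv_eq_of_mul_eq_one_right
      rw [← mul_assoc, h2, hZ.hzz]
    calc v * u = u⁻¹ * (u * v * (u * v)) * v⁻¹ := by group
      _ = (u * z) * z * (v * z) := by rw [h3, h4, h5]
      _ = u * (z * z) * (v * z) := by group
      _ = u * v * z := by rw [hZ.hzz]; group
      _ = z * (u * v) := hzcY _ (mul_mem hu hv)
  have hpair : ∃ x ∈ Y, ∃ y ∈ Y, x ≠ 1 ∧ x ≠ z ∧ y ≠ 1 ∧ y ≠ z ∧ x * y ≠ 1 ∧ x * y ≠ z ∧
      y * x = z * (x * y) ∧ ∀ w ∈ Y, w = 1 ∨ w = z ∨ w = x ∨ w = x * z ∨ w = y ∨ w = y * z ∨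
        w = x * y ∨ w = x * y * z := by
    push Not at hnonab
    obtain ⟨x, hx, y, hy, hxy⟩ := hnonab
    have hx1 : x ≠ 1 := by
      rintro rfl
      simp at hxy
    have hy1 : y ≠ 1 := by
      rintro rfl
      simp at hxy
    have hxz : x ≠ z := by
      rintro rfl
      exact hxy (hzcY y hy).symm
    have hyz : y ≠ z := by
      rintro rfl
      exact hxy (hzcY x hx)
    have hxy1 : x * y ≠ 1 := by
      intro h
      apply hxy
      have h1 : y = x⁻¹ := eq_inv_of_mul_eq_one_right h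
      rw [h1]
      group
    have hxyz : x * y ≠ z := by
      intro h
      have h1 := hinvz2 x hx hx1 hxz y h
      exact hy1 (by
        rw [h1] at hxy
        exact absurd rfl hxy)
    have hyx := hcomm x hx y hy hx1 hxz hy1 hyz hxy1 hxyz
    refine ⟨x, hx, y, hy, hx1, hxz, hy1, hyz, hxy1, hxyz, hyx, ?_⟩
    intro w hw
    by_contra hcon
    push Not at hcon
    obtain ⟨hw1, hwz, hwx, hwxz, hwy, hwyz, hwxy, hwxyz⟩ := hcon
    have hxyY : x * y ∈ Y := mul_mem hx hy
    have h1 : w * x = z * (x * w) := hcomm x hx w hw hx1 hxz hw1 hwz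
      (fun h => hwxz (hinvz x hx hx1 hxz w h)) (fun h => hwx (hinvz2 x hx hx1 hxz w h))
    have h2 : w * y = z * (y * w) := hcomm y hy w hw hy1 hyz hw1 hwz
      (fun h => hwyz (hinvz y hy hy1 hyz w h)) (fun h => hwy (hinvz2 y hy hy1 hyz w h))
    have h3 : w * (x * y) = z * ((x * y) * w) := hcomm (x * y) hxyY w hw hxy1 hxyz hw1 hwz
      (fun h => hwxyz (hinvz _ hxyY hxy1 hxyz w h)) (fun h => hwxy (hinvz2 _ hxyY hxy1 hxyz w h))
    have h4 : w * (x * y) = (x * y) * w := by
      calc w * (x * y) = (w * x) * y := by group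
        _ = z * (x * w) * y := by rw [h1]
        _ = z * x * (w * y) := by group
        _ = z * x * (z * (y * w)) := by rw [h2]
        _ = z * (x * z) * (y * w) := by group
        _ = z * (z * x) * (y * w) := by rw [hzcY x hx]
        _ = (z * z) * x * (y * w) := by group
        _ = (x * y) * w := by rw [hZ.hzz]; group
    rw [h4] at h3
    apply hZ.hz1
    exact (mul_eq_right.1 h3.symm)
  refine ⟨hYN, hzY, hinv, hsq, ?_, ?_, hcomm, ?_, ⟨a₁, ha₁, ha₁1, ha₁Y⟩, hzcY, hpair⟩
  · intro y hy hya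
    apply hDz
    exact mem_inf.2 ⟨hy, mem_centralizer_iff.2 (fun a ha => hya a ha)⟩
  · intro M hMY hMN
    by_cases h : M = Y
    · exact Or.inl h
    · exact Or.inr (fun x hx => hDz x (hprop' M hMY hMN h hx))
  · by_contra hcon
    push Not at hcon
    apply hYc
    intro a ha
    rw [mem_centralizer_iff]
    intro y hy
    exact (hcon a ha y hy).symm

end HasZ

end Cfsg.Agent.Lib.LocalEven.OddAutA
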