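/-
A non-cyclic abelian group of odd automorphisms of a `2`-group, each nontrivial element fixing at
most one involution.  Part B: the structure of a block.
-/
import Cfsg.Agent.Lib.LocalEven.OddAutA
import Cfsg.Agent.Lib.QuadAct.Basic

set_option autoImplicit false
set_option linter.unusedSectionVars false

namespace Cfsg.Agent.Lib.LocalEven.OddAutA

open Subgroup
open Cfsg.Agent.Lib.LocalEven.Util
open scoped commutatorElement

variable {G : Type*} [Group G] [Finite G] {p : ℕ} [Fact p.Prime] {K A Y : Subgroup G} {z : G}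

namespace HasZ

variable (hZ : HasZ p K A z)
include hZ

/-- If `g` moves `y` to `y z`, it commutes with `y`. -/
theorem commute_of_coset {g y : G} (hg : g ∈ A) (h : g * y * g⁻¹ = y * z) : g * y = y * g := by
  have hgz := hZ.hzA g hg
  have h1 : g * z * g⁻¹ = z := by rw [hgz]; group
  have h2 : (g * g) * y * (g * g)⁻¹ = y := by
    calc (g * g) * y * (g * g)⁻¹ = g * (g * y * g⁻¹) * g⁻¹ := by group
      _ = g * (y * z) * g⁻¹ := by rw [h]
      _ = (g * y * g⁻¹) * (g * z * g⁻¹) := by group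
      _ = y * z * z := by rw [h, h1]
      _ = y := by rw [mul_assoc, hZ.hzz, mul_one]
  have h3 : Commute (g * g) y := by
    show g * g * y = y * (g * g)
    calc g * g * y = (g * g) * y * (g * g)⁻¹ * (g * g) := by group
      _ = y * (g * g) := by rw [h2]
  exact hZ.hH.commute_of_sq' hg h3

theorem commute_of_conj_eq {g y : G} (h : g * y * g⁻¹ = y) : g * y = y * g := by
  calc g * y = (g * y * g⁻¹) * g := by group
    _ = y * g := by rw [h]

theorem commute_z {g : G} (hg : g ∈ A) : g * z = z * g := hZ.hzA g hg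

end HasZ

namespace IsBlock

variable (hZ : HasZ p K A z) (hY : IsBlock A z Y)
include hZ hY

theorem conj_mem {a y : G} (ha : a ∈ A) (hy : y ∈ Y) : a * y * a⁻¹ ∈ Y :=
  conj_mem_of_mem_normalizer (hY.hYN ha) hy

theorem conj_ne_one {a y : G} (hy1 : y ≠ 1) : a * y * a⁻¹ ≠ 1 := by
  intro h
  apply hy1
  have : y = a⁻¹ * (a * y * a⁻¹) * a := by group
  rw [this, h]
  group

theorem conj_ne_z {a y : G} (ha : a ∈ A) (hyz : y ≠ z) : a * y * a⁻¹ ≠ z := by
  intro h
  apply hyz
  have h1 : a * y = a * z := by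
    calc a * y = (a * y * a⁻¹) * a := by group
      _ = z * a := by rw [h]
      _ = a * z := (hZ.hzA a ha).symm
  exact mul_left_cancel h1

/-- The eight elements of a block. -/
theorem list {x y : G} (hx : x ∈ Y) (hy : y ∈ Y) (hx1 : x ≠ 1) (hxz : x ≠ z) (hy1 : y ≠ 1)
    (hyz : y ≠ z) (hyx : y ≠ x) (hyxz : y ≠ x * z) :
    ∀ w ∈ Y, w = 1 ∨ w = z ∨ w = x ∨ w = x * z ∨ w = y ∨ w = y * z ∨ w = x * y ∨ w = x * y * z := by
  have hinvz : ∀ t ∈ Y, t ≠ 1 → t ≠ z → ∀ s, t * s = 1 → s = t * z := by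
    intro t ht ht1 htz s hs
    apply mul_left_cancel (a := t)
    rw [hs, ← mul_assoc, hY.hsq t ht ht1 htz, hZ.hzz]
  have hinvz2 : ∀ t ∈ Y, t ≠ 1 → t ≠ z → ∀ s, t * s = z → s = t := by
    intro t ht ht1 htz s hs
    apply mul_left_cancel (a := t)
    rw [hs, hY.hsq t ht ht1 htz]
  have hxy1 : x * y ≠ 1 := fun h => hyxz (hinvz x hx hx1 hxz y h)
  have hxyz : x * y ≠ z := fun h => hyx (hinvz2 x hx hx1 hxz y h)
  intro w hw
  by_contra hcon
  push Not at hcon
  obtain ⟨hw1, hwz, hwx, hwxz, hwy, hwyz, hwxy, hwxyz⟩ := hcon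
  have hxyY : x * y ∈ Y := mul_mem hx hy
  have h1 : w * x = z * (x * w) := hY.hcomm x hx w hw hx1 hxz hw1 hwz
    (fun h => hwxz (hinvz x hx hx1 hxz w h)) (fun h => hwx (hinvz2 x hx hx1 hxz w h))
  have h2 : w * y = z * (y * w) := hY.hcomm y hy w hw hy1 hyz hw1 hwz
    (fun h => hwyz (hinvz y hy hy1 hyz w h)) (fun h => hwy (hinvz2 y hy hy1 hyz w h))
  have h3 : w * (x * y) = z * ((x * y) * w) := hY.hcomm (x * y) hxyY w hw hxy1 hxyz hw1 hwz
    (fun h => hwxyz (hinvz _ hxyY hxy1 hxyz w h)) (fun h => hwxy (hinvz2 _ hxyY hxy1 hxyz w h))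
  have h4 : w * (x * y) = (x * y) * w := by
    calc w * (x * y) = (w * x) * y := by group
      _ = z * (x * w) * y := by rw [h1]
      _ = z * x * (w * y) := by group
      _ = z * x * (z * (y * w)) := by rw [h2]
      _ = z * (x * z) * (y * w) := by group
      _ = z * (z * x) * (y * w) := by rw [hY.hzc x hx]
      _ = (z * z) * x * (y * w) := by group
      _ = (x * y) * w := by rw [hZ.hzz]; group
  rw [h4] at h3
  apply hZ.hz1
  exact (mul_eq_right.1 h3.symm)

/-- The orbit of a moved element: the third element. -/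
theorem orbit {a t : G} (ha : a ∈ A) (ht : t ∈ Y) (ht1 : t ≠ 1) (htz : t ≠ z)
    (hat : a * t ≠ t * a) :
    a * (a * t * a⁻¹) * a⁻¹ = t * (a * t * a⁻¹) ∨ a * (a * t * a⁻¹) * a⁻¹ = t * (a * t * a⁻¹) * z := by
  set v := a * t * a⁻¹ with hv
  have hvY : v ∈ Y := hY.conj_mem hZ ha ht
  have hv1 : v ≠ 1 := hY.conj_ne_one hZ ht1
  have hvz : v ≠ z := hY.conj_ne_z hZ ha htz
  have hvt : v ≠ t := fun h => hat (HasZ.commute_of_conj_eq hZ h)
  have hvtz : v ≠ t * z := fun h => hat (hZ.commute_of_coset ha h)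
  set w := a * v * a⁻¹ with hw
  have hwY : w ∈ Y := hY.conj_mem hZ ha hvY
  have hw1 : w ≠ 1 := hY.conj_ne_one hZ hv1
  have hwz : w ≠ z := hY.conj_ne_z hZ ha hvz
  have haa : a * a ∈ A := mul_mem ha ha
  have hwa : w = (a * a) * t * (a * a)⁻¹ := by
    rw [hw, hv]
    group
  have hav : a * v ≠ v * a := by
    intro h
    apply hat
    have h1 : a * t * a⁻¹ * a = a * (a * t * a⁻¹) := h.symm
    have h2 : a * t = a * (a * t * a⁻¹) := by
      rw [← h1]
      group
    have h3 : t = a * t * a⁻¹ := mul_left_cancel h2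
    exact HasZ.commute_of_conj_eq hZ h3.symm
  rcases hY.list hZ ht hvY ht1 htz hv1 hvz hvt hvtz w hwY with h | h | h | h | h | h | h | h
  · exact absurd h hw1
  · exact absurd h hwz
  · exfalso
    apply hat
    rw [hwa] at h
    exact hZ.hH.commute_of_sq' ha (HasZ.commute_of_conj_eq hZ h)
  · exfalso
    apply hat
    rw [hwa] at h
    exact hZ.hH.commute_of_sq' ha (hZ.commute_of_coset haa h)
  · exact absurd (HasZ.commute_of_conj_eq hZ h) hav
  · exact absurd (hZ.commute_of_coset ha h) hav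
  · exact Or.inl h
  · exact Or.inr h

/-- Cubes centralize a block. -/
theorem cube {a t : G} (ha : a ∈ A) (ht : t ∈ Y) : a ^ 3 * t = t * a ^ 3 := by
  have hcomm3 : ∀ s : G, Commute a s → a ^ 3 * s = s * a ^ 3 := fun s h => (h.pow_left 3).eq
  by_cases ht1 : t = 1
  · rw [ht1]; group
  by_cases htz : t = z
  · rw [htz]
    exact hcomm3 z (hZ.hzA a ha)
  by_cases hat : a * t = t * a
  · exact hcomm3 t hat
  set v := a * t * a⁻¹ with hv
  have hvY : v ∈ Y := hY.conj_mem hZ ha ht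
  have hv1 : v ≠ 1 := hY.conj_ne_one hZ ht1
  have hvz : v ≠ z := hY.conj_ne_z hZ ha htz
  have hvt : v ≠ t := fun h => hat (HasZ.commute_of_conj_eq hZ h)
  have hvtz : v ≠ t * z := fun h => hat (hZ.commute_of_coset ha h)
  have htv1 : t * v ≠ 1 := by
    intro h
    apply hvtz
    apply mul_left_cancel (a := t)
    rw [h, ← mul_assoc, hY.hsq t ht ht1 htz, hZ.hzz]
  have htvz : t * v ≠ z := by
    intro h
    apply hvt
    apply mul_left_cancel (a := t)
    rw [h, hY.hsq t ht ht1 htz]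
  have hc := hY.hcomm t ht v hvY ht1 htz hv1 hvz htv1 htvz
  have hvv := hY.hsq v hvY hv1 hvz
  have hk : v * (t * v) = t := by
    calc v * (t * v) = (v * t) * v := by group
      _ = z * (t * v) * v := by rw [hc]
      _ = z * t * (v * v) := by group
      _ = z * t * z := by rw [hvv]
      _ = z * (t * z) := by group
      _ = z * (z * t) := by rw [hY.hzc t ht]
      _ = (z * z) * t := by group
      _ = t := by rw [hZ.hzz, one_mul]
  have hzconj : a * z * a⁻¹ = z := by
    rw [hZ.hzA a ha]; group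
  have h3 : a * (a * v * a⁻¹) * a⁻¹ = t := by
    rcases hY.orbit hZ ha ht ht1 htz hat with h | h
    · rw [← hv] at h
      rw [h]
      calc a * (t * v) * a⁻¹ = (a * t * a⁻¹) * (a * v * a⁻¹) := by group
        _ = v * (t * v) := by rw [← hv, h]
        _ = t := hk
    · rw [← hv] at h
      rw [h]
      calc a * (t * v * z) * a⁻¹ = (a * t * a⁻¹) * (a * v * a⁻¹) * (a * z * a⁻¹) := by group
        _ = v * (t * v * z) * z := by rw [← hv, h, hzconj]
        _ = v * (t * v) * (z * z) := by group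
        _ = t := by rw [hZ.hzz, mul_one, hk]
  have h4 : a ^ 3 * t * (a ^ 3)⁻¹ = t := by
    rw [hv] at h3
    have h5 : a ^ 3 = a * a * a := by rw [pow_succ, pow_two]
    calc a ^ 3 * t * (a ^ 3)⁻¹ = a * (a * (a * t * a⁻¹) * a⁻¹) * a⁻¹ := by
          rw [h5]
          simp only [mul_inv_rev, mul_assoc]
      _ = t := h3
  exact HasZ.commute_of_conj_eq hZ h4

/-- A block forces `p = 3`. -/
theorem prime_eq : p = 3 := by
  obtain ⟨a, ha, t, ht, hat⟩ := hY.hnc
  by_contra hp3
  have hcop : Nat.Coprime 3 (orderOf a) := by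
    obtain ⟨k, hk⟩ := hZ.hH.hA ⟨a, ha⟩
    have h1 : a ^ p ^ k = 1 := by
      have := congrArg Subtype.val hk
      simpa using this
    have h2 : orderOf a ∣ p ^ k := orderOf_dvd_of_pow_eq_one h1
    refine Nat.Coprime.coprime_dvd_right h2 (Nat.Coprime.pow_right k ?_)
    exact (Nat.coprime_primes Nat.prime_three Fact.out).2 (Ne.symm hp3)
  obtain ⟨m, hm⟩ := exists_pow_eq_self_of_coprime hcop
  apply hat
  have h1 : Commute (a ^ 3) t := hY.cube hZ ha ht
  have h2 : Commute ((a ^ 3) ^ m) t := h1.pow_left m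
  rw [hm] at h2
  exact h2

/-- If an element of `A` commutes with one noncentral element, it centralizes the block. -/
theorem centralizes_of_commute {c u : G} (hc : c ∈ A) (hu : u ∈ Y) (hu1 : u ≠ 1) (huz : u ≠ z)
    (hcu : c * u = u * c) : ∀ t ∈ Y, c * t = t * c := by
  have hcz : c * z = z * c := hZ.hzA c hc
  have hcuconj : c * u * c⁻¹ = u := by rw [hcu]; group
  have hzconj : c * z * c⁻¹ = z := by rw [hcz]; group
  intro t ht
  by_cases ht1 : t = 1
  · rw [ht1]; group
  by_cases htz : t = z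
  · rw [htz]; exact hcz
  by_cases htu : t = u
  · rw [htu]; exact hcu
  by_cases htuz : t = u * z
  · rw [htuz]
    exact Commute.mul_right (show Commute c u from hcu) (show Commute c z from hcz)
  set v := c * t * c⁻¹ with hv
  have hvY : v ∈ Y := hY.conj_mem hZ hc ht
  have hv1 : v ≠ 1 := hY.conj_ne_one hZ ht1
  have hvz : v ≠ z := hY.conj_ne_z hZ hc htz
  have hsqt : ∀ e : G, (e = 1 ∨ e = z) → c * (u * t * e) * c⁻¹ = u * v * e := by
    intro e he
    rcases he with he | he
    · rw [he]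
      calc c * (u * t * 1) * c⁻¹ = (c * u * c⁻¹) * (c * t * c⁻¹) := by group
        _ = u * v * 1 := by rw [hcuconj, ← hv, mul_one]
    · rw [he]
      calc c * (u * t * z) * c⁻¹ = (c * u * c⁻¹) * (c * t * c⁻¹) * (c * z * c⁻¹) := by group
        _ = u * v * z := by rw [hcuconj, ← hv, hzconj]
  have huu := hY.hsq u hu hu1 huz
  have hcc : c * c ∈ A := mul_mem hc hc
  have hvv : c * v * c⁻¹ = (c * c) * t * (c * c)⁻¹ := by
    rw [hv]; group
  have hfinish : ∀ e : G, (e = 1 ∨ e = z) → v = u * t * e → c * t = t * c := by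
    intro e he hve
    have h1 : c * v * c⁻¹ = u * v * e := by
      conv_lhs => rw [hve]
      exact hsqt e he
    have h2 : u * v * e = u * (u * t * e) * e := by
      congr 2
    have h3 : e * e = 1 := by
      rcases he with he | he
      · rw [he]; group
      · rw [he]; exact hZ.hzz
    have h4 : u * (u * t * e) * e = t * z := by
      calc u * (u * t * e) * e = (u * u) * t * (e * e) := by group
        _ = z * t := by rw [huu, h3, mul_one]
        _ = t * z := (hY.hzc t ht).symm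
    have h5 : (c * c) * t * (c * c)⁻¹ = t * z := by
      rw [← hvv, h1, h2, h4]
    exact hZ.hH.commute_of_sq' hc (hZ.commute_of_coset hcc h5)
  rcases hY.list hZ hu ht hu1 huz ht1 htz htu htuz v hvY with h | h | h | h | h | h | h | h
  · exact absurd h hv1
  · exact absurd h hvz
  · exfalso
    apply htu
    have h1 : c * t = c * u := by
      calc c * t = (c * t * c⁻¹) * c := by group
        _ = u * c := by rw [← hv, h]
        _ = c * u := hcu.symm
    exact mul_left_cancel h1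
  · exfalso
    apply htuz
    have h1 : c * t = c * (u * z) := by
      calc c * t = (c * t * c⁻¹) * c := by group
        _ = u * z * c := by rw [← hv, h]
        _ = (u * z) * c := rfl
        _ = c * (u * z) :=
          (Commute.mul_right (show Commute c u from hcu) (show Commute c z from hcz)).eq.symm
    exact mul_left_cancel h1
  · exact HasZ.commute_of_conj_eq hZ h
  · exact hZ.commute_of_coset hc h
  · exact hfinish 1 (Or.inl rfl) (by rw [mul_one]; exact h)
  · exact hfinish z (Or.inr rfl) h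

/-- A central element of a block. -/
theorem center_block {w : G} (hw : w ∈ Y) (hc : ∀ u ∈ Y, w * u = u * w) : w = 1 ∨ w = z := by
  by_contra hcon
  push Not at hcon
  obtain ⟨hw1, hwz⟩ := hcon
  obtain ⟨x, hx, y, hy, hx1, hxz, hy1, hyz, hxy1, hxyz, hyx, -⟩ := hY.hpair
  have hxy : x * y ≠ y * x := by
    intro h
    rw [h] at hyx
    exact hZ.hz1 (mul_eq_right.1 hyx.symm)
  by_cases hwx : w = x
  · exact hxy (hwx ▸ hc y hy)
  by_cases hwxz : w = x * z
  · apply hxy
    have h1 := hc y hy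
    rw [hwxz] at h1
    have h2 : x * z * y = x * y * z := by
      rw [mul_assoc, ← hY.hzc y hy, mul_assoc]
    have h3 : y * (x * z) = y * x * z := by group
    rw [h2, h3] at h1
    exact mul_right_cancel h1
  have h1 : x * w ≠ 1 := by
    intro h
    apply hwxz
    apply mul_left_cancel (a := x)
    rw [h, ← mul_assoc, hY.hsq x hx hx1 hxz, hZ.hzz]
  have h2 : x * w ≠ z := by
    intro h
    apply hwx
    apply mul_left_cancel (a := x)
    rw [h, hY.hsq x hx hx1 hxz]
  have h3 := hY.hcomm x hx w hw hx1 hxz hw1 hwz h1 h2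
  rw [hc x hx] at h3
  exact hZ.hz1 (mul_eq_right.1 h3.symm)

omit hZ hY in
/-- Flipping a commutation relation. -/
theorem flip_rel {x y m e z : G} (hzz : z * z = 1) (hyz : y * z = z * y)
    (hmz : m * z = z * m) (hxy : x * y = z * (y * x)) (hm : x * m = z * (m * x))
    (he : e = 1 ∨ e = z) (hym : y * m = e * (m * y)) :
    x * (y⁻¹ * m) = (y⁻¹ * m) * x ∧ y * (y⁻¹ * m) = e * ((y⁻¹ * m) * y) := by
  have hee : e * e = 1 := by
    rcases he with he | he
    · rw [he]; group
    · rw [he]; exact hzz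
  have hey : y * e = e * y := by
    rcases he with he | he
    · rw [he]; group
    · rw [he]; exact hyz
  have hem : m * e = e * m := by
    rcases he with he | he
    · rw [he]; group
    · rw [he]; exact hmz
  have hz' : z⁻¹ = z := inv_eq_of_mul_eq_one_right hzz
  have hyz' : y⁻¹ * z = z * y⁻¹ := by
    calc y⁻¹ * z = y⁻¹ * (z * y) * y⁻¹ := by group
      _ = y⁻¹ * (y * z) * y⁻¹ := by rw [hyz]
      _ = z * y⁻¹ := by group
  constructor
  · have h1 : m * x = z * (x * m) := by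
      rw [hm, ← mul_assoc, hzz, one_mul]
    have h2 : y⁻¹ * x = z * (x * y⁻¹) := by
      calc y⁻¹ * x = y⁻¹ * (x * y) * y⁻¹ := by group
        _ = y⁻¹ * (z * (y * x)) * y⁻¹ := by rw [hxy]
        _ = (y⁻¹ * z) * y * x * y⁻¹ := by group
        _ = z * y⁻¹ * y * x * y⁻¹ := by rw [hyz']
        _ = z * (x * y⁻¹) := by group
    calc x * (y⁻¹ * m) = (z * z) * (x * y⁻¹) * m := by rw [hzz]; group
      _ = z * (z * (x * y⁻¹)) * m := by group
      _ = z * (y⁻¹ * x) * m := by rw [h2]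
      _ = (z * y⁻¹) * x * m := by group
      _ = (y⁻¹ * z) * x * m := by rw [hyz']
      _ = y⁻¹ * (z * (x * m)) := by group
      _ = y⁻¹ * (m * x) := by rw [h1]
      _ = (y⁻¹ * m) * x := by group
  · have h1 : m * y = e * (y * m) := by
      rw [hym, ← mul_assoc, hee, one_mul]
    have h2 : y⁻¹ * e = e * y⁻¹ := by
      calc y⁻¹ * e = y⁻¹ * (e * y) * y⁻¹ := by group
        _ = y⁻¹ * (y * e) * y⁻¹ := by rw [hey]
        _ = e * y⁻¹ := by group
    calc y * (y⁻¹ * m) = (e * e) * m := by rw [hee]; group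
      _ = e * (y⁻¹ * e * y) * m := by rw [h2]; group
      _ = e * (y⁻¹ * (e * (y * m))) := by group
      _ = e * (y⁻¹ * (m * y)) := by rw [h1]
      _ = e * ((y⁻¹ * m) * y) := by group

/-- Splitting off a block. -/
theorem inner (hYK : Y ≤ K) {n : G} (hnz : n * z = z * n)
    (hn : ∀ y ∈ Y, y * n = n * y ∨ y * n = z * (n * y)) :
    ∃ t ∈ Y, ∀ y ∈ Y, (t⁻¹ * n) * y = y * (t⁻¹ * n) := by
  obtain ⟨x, hx, y, hy, hx1, hxz, hy1, hyz, hxy1, hxyz, hyx, hlist⟩ := hY.hpair
  have hzz := hZ.hzz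
  have hxz' : x * z = z * x := hY.hzc x hx
  have hyz' : y * z = z * y := hY.hzc y hy
  have hxy : x * y = z * (y * x) := by
    rw [hyx, ← mul_assoc, hzz, one_mul]
  have hfin : ∀ c : G, c * z = z * c → x * c = c * x → y * c = c * y → ∀ w ∈ Y, c * w = w * c := by
    intro c hcz hcx hcy w hw
    have c1 : Commute c x := hcx.symm
    have c2 : Commute c y := hcy.symm
    have c3 : Commute c z := hcz
    rcases hlist w hw with h | h | h | h | h | h | h | h <;> rw [h]
    · group
    · exact c3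
    · exact c1
    · exact c1.mul_right c3
    · exact c2
    · exact c2.mul_right c3
    · exact c1.mul_right c2
    · exact (c1.mul_right c2).mul_right c3
  have hinvcomm : ∀ s m : G, s * z = z * s → m * z = z * m → (s⁻¹ * m) * z = z * (s⁻¹ * m) := by
    intro s m hs hm
    have c1 : Commute s z := hs
    have c2 : Commute m z := hm
    exact (c1.inv_left.mul_left c2)
  have h1 : x * n = n * x ∨ x * n = z * (n * x) := hn x hx
  have h2 : y * n = n * y ∨ y * n = z * (n * y) := hn y hy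
  rcases h1 with h1 | h1 <;> rcases h2 with h2 | h2
  · refine ⟨1, one_mem _, ?_⟩
    rw [inv_one, one_mul]
    intro w hw
    exact hfin n hnz h1 h2 w hw
  · -- flip `y` with `x`
    have hyx' : y * x = z * (x * y) := hyx
    obtain ⟨h3, h4⟩ := flip_rel (m := n) (e := 1) hzz hxz' hnz hyx' h2 (Or.inl rfl)
      (by rw [h1]; group)
    refine ⟨x, hx, ?_⟩
    apply hfin _ (hinvcomm x n hxz' hnz) ?_ h3
    rw [h4]; group
  · obtain ⟨h3, h4⟩ := flip_rel (m := n) (e := 1) hzz hyz' hnz hxy h1 (Or.inl rfl)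
      (by rw [h2]; group)
    refine ⟨y, hy, ?_⟩
    apply hfin _ (hinvcomm y n hyz' hnz) h3
    rw [h4]; group
  · obtain ⟨h3, h4⟩ := flip_rel (m := n) (e := z) hzz hyz' hnz hxy h1 (Or.inr rfl) h2
    set n₁ := y⁻¹ * n with hn₁
    have hn₁z : n₁ * z = z * n₁ := hinvcomm y n hyz' hnz
    obtain ⟨h5, h6⟩ := flip_rel (m := n₁) (e := 1) hzz hxz' hn₁z hyx h4 (Or.inl rfl)
      (by rw [h3]; group)
    refine ⟨y * x, mul_mem hy hx, ?_⟩
    have h7 : (y * x)⁻¹ * n = x⁻¹ * n₁ := by
      rw [hn₁]; group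
    rw [h7]
    apply hfin _ (hinvcomm x n₁ hxz' hn₁z) ?_ h5
    rw [h6]; group

/-- The fixed points of an element centralizing a block. -/
theorem eq_fix (hYK : Y ≤ K) {a : G} (ha : a ∈ A) (ha1 : a ≠ 1) (haY : ∀ y ∈ Y, a * y = y * a) :
    K ⊓ centralizer ({a} : Set G) = Y := by
  have hH := hZ.hH
  have hfact : Fact (Nat.Prime 2) := ⟨Nat.prime_two⟩
  set X : Subgroup G := K ⊓ centralizer ({a} : Set G) with hX
  have hYX : Y ≤ X := fun y hy => mem_inf.2 ⟨hYK hy, (hH.mem_centralizer_singleton).2 (haY y hy)⟩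
  by_contra hne
  have hlt : Y < X := lt_of_le_of_ne hYX (Ne.symm hne)
  have hX2 : IsPGroup 2 X := hH.hK.to_le inf_le_left
  have hlt2 := lt_normalizer_inf hX2 hlt
  set T : Subgroup G := normalizer (Y : Set G) ⊓ X with hT
  have hTN : A ≤ normalizer (T : Set G) := fun b hb =>
    Cfsg.Agent.Lib.PReduced.RelNorm.mem_normalizer_inf (le_normalizer (hY.hYN hb))
      (hH.le_normalizer_fix hH.hAK ha hb)
  have hT2 : IsPGroup 2 T := hX2.to_le inf_le_right
  have hYT : Y ≤ T := hlt2.le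
  have hM : ⁅Y, T⁆ ≤ Y :=
    Cfsg.Agent.Lib.Coprime.Action.commutator_le_of_le_normalizer (inf_le_left : T ≤ _)
  have hMN : A ≤ normalizer ((⁅Y, T⁆ : Subgroup G) : Set G) := fun b hb =>
    mem_normalizer_commutator (hY.hYN hb) (hTN hb)
  have hYbot : Y ≠ ⊥ := by
    intro h
    have := hY.hzY
    rw [h, mem_bot] at this
    exact hZ.hz1 this
  have hMne : ⁅Y, T⁆ ≠ Y := fun h =>
    hYbot (eq_bot_of_le_commutator_of_isPGroup hT2 hYT (le_of_eq h.symm))
  have h3 : ∀ x ∈ ⁅Y, T⁆, x = 1 ∨ x = z := (hY.hirr _ hM hMN).resolve_left hMne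
  obtain ⟨n, hnT, hnY⟩ := SetLike.exists_of_lt hlt2
  have hnK : n ∈ K := (mem_inf.1 (mem_inf.1 hnT).2).1
  have hn : ∀ y ∈ Y, y * n = n * y ∨ y * n = z * (n * y) := by
    intro y hy
    rcases h3 ⁅y, n⁆ (commutator_mem_commutator hy hnT) with h | h
    · left
      exact commutatorElement_eq_one_iff_mul_comm.1 h
    · right
      rw [← h]
      simp only [commutatorElement_def]
      group
  obtain ⟨t, ht, hc⟩ := hY.inner hZ hYK (hZ.hzc n hnK) hn
  have hcX : t⁻¹ * n ∈ X := mul_mem (inv_mem (hYX ht)) (mem_inf.1 hnT).2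
  have hcY : t⁻¹ * n ∉ Y := by
    intro h
    apply hnY
    have : n = t * (t⁻¹ * n) := by group
    rw [this]
    exact mul_mem ht h
  have key : ∀ k : ℕ, ∀ c ∈ X, c ∉ Y → (∀ y ∈ Y, c * y = y * c) → c ^ (2 ^ k) = 1 →
      ∃ c' ∈ X, c' ∉ Y ∧ (∀ y ∈ Y, c' * y = y * c') ∧ c' * c' ∈ Y := by
    intro k
    induction k with
    | zero =>
      intro c _ hcY _ h1
      simp only [pow_zero, pow_one] at h1
      exact absurd (h1 ▸ one_mem Y) hcY
    | succ k ih =>
      intro c hcX hcY hcc h1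
      by_cases hcc2 : c * c ∈ Y
      · exact ⟨c, hcX, hcY, hcc, hcc2⟩
      · apply ih (c * c) (mul_mem hcX hcX) hcc2
        · intro y hy
          have c1 : Commute c y := hcc y hy
          exact (c1.mul_left c1).eq
        · rw [← pow_two, ← pow_mul, ← pow_succ']
          exact h1
  obtain ⟨k, hk⟩ := hX2 ⟨t⁻¹ * n, hcX⟩
  obtain ⟨c, hcX', hcY', hcc, hc2⟩ := key k _ hcX hcY hc (by
    have := congrArg Subtype.val hk
    simpa using this)
  have hcK : c ∈ K := (mem_inf.1 hcX').1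
  have hca : a * c = c * a := (hH.mem_centralizer_singleton).1 (mem_inf.1 hcX').2
  have hcent := hY.center_block hZ hc2 (fun u hu =>
    (Commute.mul_left (show Commute c u from hcc u hu) (show Commute c u from hcc u hu)).eq)
  rcases hcent with h | h
  · rcases hZ.huniq a ha ha1 c hcK h hca with h' | h'
    · exact hcY' (h' ▸ one_mem Y)
    · exact hcY' (h' ▸ hY.hzY)
  · obtain ⟨x, hx, -, -, hx1, hxz, -, -, -, -, -, -⟩ := hY.hpair
    have hxx := hY.hsq x hx hx1 hxz
    have h1 : (c * x) * (c * x) = 1 := by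
      have c1 : Commute c x := hcc x hx
      rw [c1.symm.mul_mul_mul_comm, h, hxx, hZ.hzz]
    have hcxa : a * (c * x) = (c * x) * a :=
      (Commute.mul_right (show Commute a c from hca) (show Commute a x from haY x hx)).eq
    rcases hZ.huniq a ha ha1 _ (mul_mem hcK (hYK hx)) h1 hcxa with h' | h'
    · apply hcY'
      have : c = x⁻¹ := eq_inv_of_mul_eq_one_left h'
      rw [this]
      exact inv_mem hx
    · apply hcY'
      have : c = z * x⁻¹ := eq_mul_inv_of_mul_eq h'
      rw [this]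
      exact mul_mem hY.hzY (inv_mem hx)

/-- Representatives of `A` modulo the centralizer of a block. -/
theorem exists_rep {a₀ u a : G} (ha₀ : a₀ ∈ A) (hu : u ∈ Y) (hu1 : u ≠ 1) (huz : u ≠ z)
    (hmv : a₀ * u ≠ u * a₀) (ha : a ∈ A) :
    ∃ i : Fin 3, ∀ t ∈ Y, ((a₀ ^ (i : ℕ))⁻¹ * a) * t = t * ((a₀ ^ (i : ℕ))⁻¹ * a) := by
  have step : ∀ b : G, b ∈ A → ∀ e : G, (e = 1 ∨ e = z) → a * u * a⁻¹ = b * u * b⁻¹ * e →
      ∀ t ∈ Y, (b⁻¹ * a) * t = t * (b⁻¹ * a) := by
    intro b hb e he h t ht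
    have hc : b⁻¹ * a ∈ A := mul_mem (inv_mem hb) ha
    have hbz : b * z = z * b := hZ.hzA b hb
    have hbe : b⁻¹ * e * b = e := by
      rcases he with he | he
      · rw [he]; group
      · rw [he, mul_assoc, ← hbz]; group
    have h1 : (b⁻¹ * a) * u * (b⁻¹ * a)⁻¹ = u * e := by
      calc (b⁻¹ * a) * u * (b⁻¹ * a)⁻¹ = b⁻¹ * (a * u * a⁻¹) * b := by group
        _ = b⁻¹ * (b * u * b⁻¹ * e) * b := by rw [h]
        _ = u * (b⁻¹ * e * b) := by group
        _ = u * e := by rw [hbe]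
    have h2 : (b⁻¹ * a) * u = u * (b⁻¹ * a) := by
      rcases he with he | he
      · rw [he, mul_one] at h1
        exact HasZ.commute_of_conj_eq hZ h1
      · rw [he] at h1
        exact hZ.commute_of_coset hc h1
    exact hY.centralizes_of_commute hZ hc hu hu1 huz h2 t ht
  set v := a₀ * u * a₀⁻¹ with hv
  have hvY : v ∈ Y := hY.conj_mem hZ ha₀ hu
  have hv1 : v ≠ 1 := hY.conj_ne_one hZ hu1
  have hvz : v ≠ z := hY.conj_ne_z hZ ha₀ huz
  have hvt : v ≠ u := fun h => hmv (HasZ.commute_of_conj_eq hZ h)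
  have hvtz : v ≠ u * z := fun h => hmv (hZ.commute_of_coset ha₀ h)
  have hsY := hY.conj_mem hZ ha hu
  have hs1 : a * u * a⁻¹ ≠ 1 := hY.conj_ne_one hZ hu1
  have hsz : a * u * a⁻¹ ≠ z := hY.conj_ne_z hZ ha huz
  have horb := hY.orbit hZ ha₀ hu hu1 huz hmv
  rw [← hv] at horb
  have hzz := hZ.hzz
  have hmem : a₀ ^ 2 ∈ A := pow_mem ha₀ 2
  have hw2 : a₀ * v * a₀⁻¹ = a₀ ^ 2 * u * (a₀ ^ 2)⁻¹ := by
    rw [hv, pow_two]; group
  have case0 : ∀ e : G, (e = 1 ∨ e = z) → a * u * a⁻¹ = u * e →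
      ∃ i : Fin 3, ∀ t ∈ Y, ((a₀ ^ (i : ℕ))⁻¹ * a) * t = t * ((a₀ ^ (i : ℕ))⁻¹ * a) := by
    intro e he h
    refine ⟨0, ?_⟩
    have := step 1 (one_mem _) e he (by rw [h]; group)
    simpa using this
  have case1 : ∀ e : G, (e = 1 ∨ e = z) → a * u * a⁻¹ = v * e →
      ∃ i : Fin 3, ∀ t ∈ Y, ((a₀ ^ (i : ℕ))⁻¹ * a) * t = t * ((a₀ ^ (i : ℕ))⁻¹ * a) := by
    intro e he h
    refine ⟨1, ?_⟩
    have := step a₀ ha₀ e he h
    simpa using this
  have case2 : ∀ e : G, (e = 1 ∨ e = z) → a * u * a⁻¹ = a₀ * v * a₀⁻¹ * e →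
      ∃ i : Fin 3, ∀ t ∈ Y, ((a₀ ^ (i : ℕ))⁻¹ * a) * t = t * ((a₀ ^ (i : ℕ))⁻¹ * a) := by
    intro e he h
    refine ⟨2, ?_⟩
    have := step (a₀ ^ 2) hmem e he (by rw [h, hw2])
    simpa using this
  rcases hY.list hZ hu hvY hu1 huz hv1 hvz hvt hvtz _ hsY with h | h | h | h | h | h | h | h
  · exact absurd h hs1
  · exact absurd h hsz
  · exact case0 1 (Or.inl rfl) (by rw [h, mul_one])
  · exact case0 z (Or.inr rfl) h
  · exact case1 1 (Or.inl rfl) (by rw [h, mul_one])
  · exact case1 z (Or.inr rfl) h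
  · rcases horb with h' | h'
    · exact case2 1 (Or.inl rfl) (by rw [h, h', mul_one])
    · exact case2 z (Or.inr rfl) (by rw [h, h', mul_assoc, hzz, mul_one])
  · rcases horb with h' | h'
    · exact case2 z (Or.inr rfl) (by rw [h, h'])
    · exact case2 1 (Or.inl rfl) (by rw [h, h', mul_one])

/-- At most eight elements. -/
theorem card_le_eight : Nat.card Y ≤ 8 := by
  classical
  obtain ⟨x, hx, y, hy, -, -, -, -, -, -, -, hlist⟩ := hY.hpair
  set s : Finset G := [1, z, x, x * z, y, y * z, x * y, x * y * z].toFinset with hs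
  have h1 : s.card ≤ 8 := List.toFinset_card_le _
  have h2 : ∀ w ∈ Y, w ∈ s := by
    intro w hw
    rw [hs, List.mem_toFinset]
    simpa using hlist w hw
  have h3 : Nat.card Y ≤ Nat.card s := Nat.card_le_card_of_injective
    (fun w : Y => (⟨w.1, h2 w.1 w.2⟩ : s)) (fun a b h => Subtype.ext (congrArg (fun w : s => w.1) h))
  have h4 : Nat.card s = s.card := by simp
  rw [h4] at h3
  exact h3.trans h1

end IsBlock

namespace HasZ

variable (hZ : HasZ p K A z)
include hZ

/-- The dichotomy for fixed points of a single element. -/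
theorem fix_dichotomy {a : G} (ha : a ∈ A) (ha1 : a ≠ 1) :
    A ≤ centralizer ((K ⊓ centralizer ({a} : Set G) : Subgroup G) : Set G) ∨
      IsBlock A z (K ⊓ centralizer ({a} : Set G)) := by
  have hH := hZ.hH
  by_cases h : A ≤ centralizer ((K ⊓ centralizer ({a} : Set G) : Subgroup G) : Set G)
  · exact Or.inl h
  · right
    obtain ⟨Y, hYX, hY⟩ := hZ.exists_block inf_le_left (hH.le_normalizer_fix hH.hAK ha) h
    have := IsBlock.eq_fix hZ hY (hYX.trans inf_le_left) ha ha1 (fun y hy =>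
      (hH.mem_centralizer_singleton).1 (mem_inf.1 (hYX hy)).2)
    rw [this]
    exact hY

/-- There is a nontrivial element whose fixed points form a block. -/
theorem exists_fix_block : ∃ a ∈ A, a ≠ 1 ∧ IsBlock A z (K ⊓ centralizer ({a} : Set G)) := by
  have hH := hZ.hH
  have h1 : ¬ A ≤ centralizer (K : Set G) := by
    intro h
    obtain ⟨a, ha, ha1⟩ := hZ.exists_ne_one
    have h2 : a ∈ A ⊓ centralizer (K : Set G) := mem_inf.2 ⟨ha, h ha⟩
    rw [hH.hfaith, mem_bot] at h2
    exact ha1 h2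
  obtain ⟨Y, hYK, hY⟩ := hZ.exists_block le_rfl hH.hAK h1
  obtain ⟨a, ha, ha1, haY⟩ := hY.hker
  have := IsBlock.eq_fix hZ hY hYK ha ha1 haY
  refine ⟨a, ha, ha1, ?_⟩
  rw [this]
  exact hY

/-- The common fixed points. -/
theorem fixed_pts {x : G} (hx : x ∈ K) (hxA : ∀ a ∈ A, a * x = x * a) : x = 1 ∨ x = z := by
  have hH := hZ.hH
  obtain ⟨a, ha, ha1, hY⟩ := hZ.exists_fix_block
  exact hY.hcen x (mem_inf.2 ⟨hx, (hH.mem_centralizer_singleton).2 (hxA a ha)⟩) hxA

/-- The fixed points of one element: small, or a block. -/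
theorem fix_cases {a : G} (ha : a ∈ A) (ha1 : a ≠ 1) :
    (∀ x ∈ K ⊓ centralizer ({a} : Set G), x = 1 ∨ x = z) ∨
      IsBlock A z (K ⊓ centralizer ({a} : Set G)) := by
  rcases hZ.fix_dichotomy ha ha1 with h | h
  · left
    intro x hx
    apply hZ.fixed_pts (mem_inf.1 hx).1
    intro b hb
    exact (mem_centralizer_iff.1 (h hb) x hx).symm
  · exact Or.inr h

end HasZ

/-- Modulo a normal subgroup, a `2`-group has a nontrivial central element. -/
theorem exists_central_mod {P N : Subgroup G} (hP : IsPGroup 2 P) (hNP : N ≤ P)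
    (hN : P ≤ normalizer (N : Set G)) (hlt : N < P) :
    ∃ x ∈ P, x ∉ N ∧ ∀ y ∈ P, ⁅x, y⁆ ∈ N := by
  have hfact : Fact (Nat.Prime 2) := ⟨Nat.prime_two⟩
  have hnorm : (N.subgroupOf P).Normal := (normal_subgroupOf_iff_le_normalizer hNP).2 hN
  have hQ : IsPGroup 2 (P ⧸ N.subgroupOf P) := hP.to_quotient _
  have hne : Nontrivial (P ⧸ N.subgroupOf P) := by
    obtain ⟨n, hnP, hnN⟩ := SetLike.exists_of_lt hlt
    refine ⟨(QuotientGroup.mk ⟨n, hnP⟩ : P ⧸ N.subgroupOf P), 1, ?_⟩
    rw [Ne, QuotientGroup.eq_one_iff, mem_subgroupOf]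
    exact hnN
  have hc := hQ.center_nontrivial
  obtain ⟨c, hc1⟩ := exists_ne (1 : center (P ⧸ N.subgroupOf P))
  obtain ⟨⟨x, hx⟩, hxc⟩ := QuotientGroup.mk_surjective c.1
  refine ⟨x, hx, ?_, ?_⟩
  · intro hxN
    apply hc1
    apply Subtype.ext
    show c.1 = 1
    rw [← hxc, QuotientGroup.eq_one_iff, mem_subgroupOf]
    exact hxN
  · intro y hy
    have h1 := mem_center_iff.1 c.2 (QuotientGroup.mk ⟨y, hy⟩)
    rw [← hxc] at h1
    have h2 : (QuotientGroup.mk ⁅(⟨x, hx⟩ : P), (⟨y, hy⟩ : P)⁆ : P ⧸ N.subgroupOf P) = 1 := by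
      rw [commutatorElement_def, QuotientGroup.mk_mul, QuotientGroup.mk_mul, QuotientGroup.mk_mul,
        QuotientGroup.mk_inv, QuotientGroup.mk_inv, ← h1]
      group
    rw [QuotientGroup.eq_one_iff, mem_subgroupOf] at h2
    exact h2

/-- The subgroup of order two. -/
def zSub {z : G} (hzz : z * z = 1) : Subgroup G where
  carrier := {x | x = 1 ∨ x = z}
  mul_mem' := by
    rintro x y (rfl | rfl) (rfl | rfl)
    · left; group
    · right; group
    · right; group
    · left; exact hzz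
  one_mem' := Or.inl rfl
  inv_mem' := by
    rintro x (rfl | rfl)
    · left; group
    · right; exact inv_eq_of_mul_eq_one_right hzz

theorem mem_zSub {z x : G} (hzz : z * z = 1) : x ∈ zSub hzz ↔ x = 1 ∨ x = z := Iff.rfl

namespace HasZ

variable (hZ : HasZ p K A z)
include hZ

/-- The structure theorem, by induction. -/
theorem peel (P : Subgroup G) : P ≤ K → A ≤ normalizer (P : Set G) → z ∈ P →
    (∀ x ∈ P, x * x = 1 ∨ x * x = z) ∧ (∀ x ∈ P, (∀ y ∈ P, x * y = y * x) → x = 1 ∨ x = z) := by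
  have hH := hZ.hH
  have hfact : Fact (Nat.Prime 2) := ⟨Nat.prime_two⟩
  have hzz := hZ.hzz
  induction P using WellFoundedLT.induction with
  | ind P ih =>
  intro hPK hPN hzP
  by_cases hP : ∀ x ∈ P, x = 1 ∨ x = z
  · refine ⟨?_, fun x hx _ => hP x hx⟩
    intro x hx
    rcases hP x hx with h | h
    · left; rw [h]; group
    · left; rw [h]; exact hzz
  push Not at hP
  obtain ⟨x₀, hx₀, hx₀1, hx₀z⟩ := hP
  set N : Subgroup G := zSub hzz with hN
  have hNP : N ≤ P := by
    rintro x (rfl | rfl)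
    · exact one_mem _
    · exact hzP
  have hNlt : N < P := by
    refine lt_of_le_of_ne hNP ?_
    intro h
    rw [← h] at hx₀
    rcases hx₀ with h' | h'
    · exact hx₀1 h'
    · exact hx₀z h'
  have hP2 : IsPGroup 2 P := hH.hK.to_le hPK
  have hPzc : ∀ x ∈ P, x * z = z * x := fun x hx => hZ.hzc x (hPK hx)
  have hNnorm : P ≤ normalizer (N : Set G) := by
    intro g hg
    apply mem_normalizer_of_conj_le
    rintro y (rfl | rfl)
    · left; group
    · right; rw [hPzc g hg]; group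
  obtain ⟨x₁, hx₁P, hx₁N, hx₁c⟩ := exists_central_mod hP2 hNP hNnorm hNlt
  -- the subgroup of elements central modulo `z`
  let V : Subgroup G :=
    { carrier := {x | x ∈ P ∧ ∀ y ∈ P, ⁅x, y⁆ = 1 ∨ ⁅x, y⁆ = z}
      mul_mem' := by
        rintro a b ⟨ha, hac⟩ ⟨hb, hbc⟩
        refine ⟨mul_mem ha hb, ?_⟩
        intro y hy
        have h1 : ⁅a * b, y⁆ = a * ⁅b, y⁆ * a⁻¹ * ⁅a, y⁆ := by
          simp only [commutatorElement_def]
          group
        have h2 : a * ⁅b, y⁆ * a⁻¹ ∈ N := by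
          rcases hbc y hy with h | h <;> rw [h]
          · left; group
          · right; rw [hPzc a ha]; group
        have h3 : ⁅a, y⁆ ∈ N := hac y hy
        rw [h1]
        exact mul_mem h2 h3
      one_mem' := ⟨one_mem _, fun y _ => Or.inl (by simp)⟩
      inv_mem' := by
        rintro a ⟨ha, hac⟩
        refine ⟨inv_mem ha, ?_⟩
        intro y hy
        have h1 : ⁅a⁻¹, y⁆ = a⁻¹ * ⁅a, y⁆⁻¹ * a := by
          simp only [commutatorElement_def]
          group
        rw [h1]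
        rcases hac y hy with h | h <;> rw [h]
        · left; group
        · right
          rw [inv_eq_of_mul_eq_one_right hzz]
          have h2 : a⁻¹ * z = z * a⁻¹ := by
            have c1 : Commute a z := hPzc a ha
            exact c1.inv_left
          rw [h2]
          group }
  have hVP : V ≤ P := fun x hx => hx.1
  have hVN : A ≤ normalizer (V : Set G) := by
    intro b hb
    apply mem_normalizer_of_conj_le
    rintro x ⟨hx, hxc⟩
    refine ⟨conj_mem_of_mem_normalizer (hPN hb) hx, ?_⟩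
    intro y hy
    have hy' : b⁻¹ * y * b ∈ P := by
      have := conj_mem_of_mem_normalizer (hPN (inv_mem hb)) hy
      simpa using this
    have h1 : ⁅b * x * b⁻¹, y⁆ = b * ⁅x, b⁻¹ * y * b⁆ * b⁻¹ := by
      simp only [commutatorElement_def]
      group
    rw [h1]
    rcases hxc _ hy' with h | h <;> rw [h]
    · left; group
    · right; rw [hZ.hzA b hb]; group
  have hx₁V : x₁ ∈ V := ⟨hx₁P, hx₁c⟩
  have hVN' : ¬ V ≤ N := fun h => hx₁N (h hx₁V)
  -- a fixed point in `V`
  have hex : ∃ a ∈ A, a ≠ 1 ∧ ¬ V ⊓ centralizer ({a} : Set G) ≤ N := by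
    by_contra hcon
    push Not at hcon
    exact hVN' (hH.gen_le (hVP.trans hPK) hVN hcon)
  obtain ⟨a, ha, ha1, hne⟩ := hex
  obtain ⟨u, hu, huN⟩ := SetLike.not_le_iff_exists.1 hne
  have huV : u ∈ V := (mem_inf.1 hu).1
  have huX : u ∈ K ⊓ centralizer ({a} : Set G) :=
    mem_inf.2 ⟨hPK (hVP huV), (mem_inf.1 hu).2⟩
  rcases hZ.fix_cases ha ha1 with hsm | hY
  · exact absurd (hsm u huX) huN
  set Y : Subgroup G := K ⊓ centralizer ({a} : Set G) with hYdef
  have hYK : Y ≤ K := inf_le_left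
  have hYV : Y ≤ V := by
    have h1 : V ⊓ Y ≤ Y := inf_le_right
    have h2 : A ≤ normalizer ((V ⊓ Y : Subgroup G) : Set G) := fun b hb =>
      Cfsg.Agent.Lib.PReduced.RelNorm.mem_normalizer_inf (hVN hb) (hY.hYN hb)
    rcases hY.hirr _ h1 h2 with h | h
    · rw [← h]
      exact inf_le_left
    · exact absurd (h u (mem_inf.2 ⟨huV, huX⟩)) huN
  have hYP : Y ≤ P := hYV.trans hVP
  set P' : Subgroup G := P ⊓ centralizer (Y : Set G) with hP'
  have hlt : P' < P := by
    refine lt_of_le_of_ne inf_le_left ?_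
    intro h
    obtain ⟨x, hx, y, hy, -, -, -, -, -, -, hyx, -⟩ := hY.hpair
    have h1 : x ∈ P' := h ▸ hYP hx
    have h2 := mem_centralizer_iff.1 (mem_inf.1 h1).2 y hy
    rw [hyx] at h2
    exact hZ.hz1 (mul_eq_right.1 h2)
  have hP'N : A ≤ normalizer (P' : Set G) := fun b hb =>
    Cfsg.Agent.Lib.PReduced.RelNorm.mem_normalizer_inf (hPN hb)
      (Cfsg.Agent.Lib.PReduced.RelNorm.mem_normalizer_centralizer (hY.hYN hb))
  have hzP' : z ∈ P' := mem_inf.2 ⟨hzP, mem_centralizer_iff.2 (fun y hy => hY.hzc y hy)⟩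
  obtain ⟨ih1, ih2⟩ := ih P' hlt (inf_le_left.trans hPK) hP'N hzP'
  -- decomposition
  have hdec : ∀ n ∈ P, ∃ t ∈ Y, t⁻¹ * n ∈ P' := by
    intro n hn
    obtain ⟨t, ht, hc⟩ := IsBlock.inner hZ hY hYK (hPzc n hn) (by
      intro y hy
      rcases (hYV hy).2 n hn with h | h
      · left
        exact commutatorElement_eq_one_iff_mul_comm.1 h
      · right
        rw [← h]
        simp only [commutatorElement_def]
        group)
    refine ⟨t, ht, mem_inf.2 ⟨mul_mem (inv_mem (hYP ht)) hn, ?_⟩⟩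
    rw [mem_centralizer_iff]
    intro y hy
    exact (hc y hy).symm
  refine ⟨?_, ?_⟩
  · intro x hx
    obtain ⟨t, ht, hc⟩ := hdec x hx
    set c := t⁻¹ * x with hcdef
    have hxeq : x = t * c := by rw [hcdef]; group
    have htc : Commute c t := (mem_centralizer_iff.1 (mem_inf.1 hc).2 t ht).symm
    have h1 : x * x = (t * t) * (c * c) := by
      rw [hxeq]
      exact htc.mul_mul_mul_comm _ _
    have h2 : t * t ∈ N := by
      by_cases ht1 : t = 1
      · left; rw [ht1]; group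
      by_cases htz : t = z
      · left; rw [htz]; exact hzz
      · right; exact hY.hsq t ht ht1 htz
    have h3 : c * c ∈ N := ih1 c hc
    have h4 : x * x ∈ N := by
      rw [h1]
      exact mul_mem h2 h3
    exact h4
  · intro x hx hxc
    obtain ⟨t, ht, hc⟩ := hdec x hx
    set c := t⁻¹ * x with hcdef
    have hxeq : x = t * c := by rw [hcdef]; group
    have htcen : t = 1 ∨ t = z := by
      apply IsBlock.center_block hZ hY ht
      intro u hu
      have h1 : Commute x u := hxc u (hYP hu)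
      have h2 : Commute u c := (mem_centralizer_iff.1 (mem_inf.1 hc).2 u hu)
      have h3 : t = x * c⁻¹ := by rw [hcdef]; group
      rw [h3]
      exact (h1.mul_left h2.inv_right.symm).eq
    have hcN : c ∈ N := by
      apply ih2 c hc
      intro y hy
      have h1 : Commute x y := hxc y (mem_inf.1 hy).1
      have h2 : Commute t⁻¹ y := by
        rcases htcen with h | h <;> rw [h]
        · simp
        · have c1 : Commute z y := (hPzc y (mem_inf.1 hy).1).symm
          exact c1.inv_left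
      exact (h2.mul_left h1).eq
    have htN : t ∈ N := htcen
    have : x ∈ N := by
      rw [hxeq]
      exact mul_mem htN hcN
    exact this

/-- Exponent three. -/
theorem cube_eq_one {a : G} (ha : a ∈ A) : a ^ 3 = 1 := by
  have hH := hZ.hH
  have h1 : K ≤ centralizer ({a ^ 3} : Set G) := by
    apply hH.gen_le le_rfl hH.hAK
    intro b hb hb1 x hx
    rw [hH.mem_centralizer_singleton]
    rcases hZ.fix_cases hb hb1 with hsm | hY
    · rcases hsm x hx with h | h
      · rw [h]; group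
      · rw [h]
        exact ((show Commute a z from hZ.hzA a ha).pow_left 3).eq
    · exact IsBlock.cube hZ hY ha hx
  have h2 : a ^ 3 ∈ A ⊓ centralizer (K : Set G) := by
    refine mem_inf.2 ⟨pow_mem ha 3, mem_centralizer_iff.2 ?_⟩
    intro k hk
    exact ((hH.mem_centralizer_singleton).1 (h1 hk)).symm
  rw [hH.hfaith, mem_bot] at h2
  exact h2

/-- Two different blocks. -/
theorem exists_two_blocks : ∃ a₁ ∈ A, ∃ a₂ ∈ A, a₁ ≠ 1 ∧ a₂ ≠ 1 ∧
    IsBlock A z (K ⊓ centralizer ({a₁} : Set G)) ∧ IsBlock A z (K ⊓ centralizer ({a₂} : Set G)) ∧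
    K ⊓ centralizer ({a₁} : Set G) ≠ K ⊓ centralizer ({a₂} : Set G) := by
  have hH := hZ.hH
  obtain ⟨a₁, ha₁, ha₁1, hY₁⟩ := hZ.exists_fix_block
  by_contra hcon
  push Not at hcon
  have h1 : K ≤ K ⊓ centralizer ({a₁} : Set G) := by
    apply hH.gen_le le_rfl hH.hAK
    intro b hb hb1
    rcases hZ.fix_cases hb hb1 with hsm | hY
    · intro x hx
      rcases hsm x hx with h | h
      · rw [h]; exact one_mem _
      · rw [h]; exact hY₁.hzY
    · rw [hcon a₁ ha₁ b hb ha₁1 hb1 hY₁ hY]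
  have h2 : a₁ ∈ A ⊓ centralizer (K : Set G) := by
    refine mem_inf.2 ⟨ha₁, mem_centralizer_iff.2 ?_⟩
    intro k hk
    exact ((hH.mem_centralizer_singleton).1 (mem_inf.1 (h1 hk)).2).symm
  rw [hH.hfaith, mem_bot] at h2
  exact ha₁1 h2

/-- An upper bound for `A`. -/
theorem card_le_nine {Y₁ Y₂ : Subgroup G} (hY₁ : IsBlock A z Y₁) (hY₂ : IsBlock A z Y₂)
    (h₁K : Y₁ ≤ K) (h₂K : Y₂ ≤ K) (hne : Y₁ ≠ Y₂) : Nat.card A ≤ 9 := by
  obtain ⟨a₀, ha₀, u, hu, hmv⟩ := hY₁.hnc
  obtain ⟨b₀, hb₀, v, hv, hmv'⟩ := hY₂.hnc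
  have hcz : ∀ g ∈ A, g * z = z * g := hZ.hzA
  have hu1 : u ≠ 1 := by
    rintro rfl
    simp at hmv
  have huz : u ≠ z := by
    rintro rfl
    exact hmv (hcz a₀ ha₀)
  have hv1 : v ≠ 1 := by
    rintro rfl
    simp at hmv'
  have hvz : v ≠ z := by
    rintro rfl
    exact hmv' (hcz b₀ hb₀)
  have hall : ∀ a : A, ∃ ij : Fin 3 × Fin 3,
      (∀ t ∈ Y₁, ((a₀ ^ (ij.1 : ℕ))⁻¹ * (a : G)) * t = t * ((a₀ ^ (ij.1 : ℕ))⁻¹ * (a : G))) ∧
      (∀ t ∈ Y₂, ((b₀ ^ (ij.2 : ℕ))⁻¹ * (a : G)) * t = t * ((b₀ ^ (ij.2 : ℕ))⁻¹ * (a : G))) := by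
    intro a
    obtain ⟨i, hi⟩ := IsBlock.exists_rep hZ hY₁ ha₀ hu hu1 huz hmv a.2
    obtain ⟨j, hj⟩ := IsBlock.exists_rep hZ hY₂ hb₀ hv hv1 hvz hmv' a.2
    exact ⟨(i, j), hi, hj⟩
  choose f hf using hall
  have hinj : Function.Injective f := by
    intro a b hab
    by_contra hne'
    have hab' : (a : G)⁻¹ * b ≠ 1 := by
      intro h
      apply hne'
      apply Subtype.ext
      exact (inv_mul_eq_one.1 h)
    have hc : (a : G)⁻¹ * b ∈ A := mul_mem (inv_mem a.2) b.2
    have key : ∀ c : G, ∀ Y : Subgroup G, (∀ t ∈ Y, (c⁻¹ * (a : G)) * t = t * (c⁻¹ * (a : G))) →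
        (∀ t ∈ Y, (c⁻¹ * (b : G)) * t = t * (c⁻¹ * (b : G))) →
        ∀ t ∈ Y, ((a : G)⁻¹ * b) * t = t * ((a : G)⁻¹ * b) := by
      intro c Y h1 h2 t ht
      have c1 : Commute (c⁻¹ * (a : G)) t := h1 t ht
      have c2 : Commute (c⁻¹ * (b : G)) t := h2 t ht
      have h3 : (a : G)⁻¹ * b = (c⁻¹ * (a : G))⁻¹ * (c⁻¹ * (b : G)) := by group
      rw [h3]
      exact (c1.inv_left.mul_left c2).eq
    have h1 := key _ Y₁ (hf a).1 (by
      rw [hab]
      exact (hf b).1)
    have h2 := key _ Y₂ (hf a).2 (by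
      rw [hab]
      exact (hf b).2)
    have h3 := IsBlock.eq_fix hZ hY₁ h₁K hc hab' h1
    have h4 := IsBlock.eq_fix hZ hY₂ h₂K hc hab' h2
    exact hne (h3.symm.trans h4)
  have h5 := Nat.card_le_card_of_injective f hinj
  simpa using h5

/-- `A` has order nine. -/
theorem card_eq_nine : Nat.card A = 9 := by
  have hH := hZ.hH
  obtain ⟨a₁, ha₁, a₂, ha₂, ha₁1, ha₂1, hY₁, hY₂, hne⟩ := hZ.exists_two_blocks
  have h9 := hZ.card_le_nine hY₁ hY₂ inf_le_left inf_le_left hne
  have hp3 : p = 3 := IsBlock.prime_eq hZ hY₁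
  obtain ⟨n, hn⟩ := IsPGroup.iff_card.1 hH.hA
  rw [hp3] at hn
  rw [hn] at h9 ⊢
  have hn2 : n ≤ 2 := by
    by_contra hcon
    push Not at hcon
    have : 3 ^ 3 ≤ 3 ^ n := Nat.pow_le_pow_right (by norm_num) hcon
    omega
  interval_cases n
  · exfalso
    apply hH.hnc
    have : A = ⊥ := (Subgroup.card_eq_one).1 (by simpa using hn)
    rw [this]
    infer_instance
  · exfalso
    apply hH.hnc
    have : Fact (Nat.Prime (Nat.card A)) := ⟨by rw [hn]; norm_num⟩
    exact isCyclic_of_prime_card rfl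
  · norm_num

/-- The structure of `K`: squares. -/
theorem sq_mem {x : G} (hx : x ∈ K) : x * x = 1 ∨ x * x = z :=
  (hZ.peel K le_rfl hZ.hH.hAK hZ.hzK).1 x hx

theorem center_eq {x : G} (hx : x ∈ K) (hc : ∀ y ∈ K, x * y = y * x) : x = 1 ∨ x = z :=
  (hZ.peel K le_rfl hZ.hH.hAK hZ.hzK).2 x hx hc

/-- The structure of `K`: commutators. -/
theorem comm_rel {x y : G} (hx : x ∈ K) (hy : y ∈ K) : ⁅x, y⁆ = 1 ∨ ⁅x, y⁆ = z := by
  have hzz := hZ.hzz
  set N := zSub hzz with hN
  have hc : ∀ e ∈ N, ∀ g ∈ K, e * g = g * e := by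
    rintro e (rfl | rfl) g hg
    · group
    · exact (hZ.hzc g hg).symm
  have hxN : x * x ∈ N := hZ.sq_mem hx
  have hyN : y * y ∈ N := hZ.sq_mem hy
  have hxyN : (x * y) * (x * y) ∈ N := hZ.sq_mem (mul_mem hx hy)
  have hxyK := mul_mem hx hy
  have h1 : ⁅x, y⁆ = (x * y) * (x * y) * (y⁻¹ * x⁻¹ * x⁻¹ * y⁻¹) := by
    simp only [commutatorElement_def]
    group
  have h2 : y⁻¹ * x⁻¹ * x⁻¹ * y⁻¹ = (y * (x * x) * y)⁻¹ := by group
  have h3 : y * (x * x) * y = (x * x) * (y * y) := by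
    rw [← hc _ hxN y hy]
    group
  have h4 : ⁅x, y⁆ ∈ N := by
    rw [h1, h2, h3]
    exact mul_mem hxyN (inv_mem (mul_mem hxN hyN))
  exact h4

/-- Subgroups containing `z` are normal in `K`. -/
theorem le_normalizer_of_z {X : Subgroup G} (hXK : X ≤ K) (hzX : z ∈ X) :
    K ≤ normalizer (X : Set G) := by
  intro k hk
  apply mem_normalizer_of_conj_le
  intro x hx
  have h1 : k * x * k⁻¹ = ⁅k, x⁆ * x := by
    simp only [commutatorElement_def]
    group
  rw [h1]
  rcases hZ.comm_rel hk (hXK hx) with h | h <;> rw [h]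
  · rw [one_mul]
    exact hx
  · exact mul_mem hzX hx

theorem card_zSub : Nat.card (zSub hZ.hzz) = 2 := by
  rw [Nat.card_eq_two_iff]
  refine ⟨⟨1, Or.inl rfl⟩, ⟨z, Or.inr rfl⟩, ?_, ?_⟩
  · intro h
    exact hZ.hz1 (congrArg Subtype.val h).symm
  · ext ⟨x, hx⟩
    simp only [Set.mem_insert_iff, Set.mem_singleton_iff, Set.mem_univ, iff_true]
    rcases hx with h | h
    · exact Or.inl (Subtype.ext h)
    · exact Or.inr (Subtype.ext h)

/-- A bound for a join. -/
theorem card_sup_le {S X : Subgroup G} (hSK : S ≤ K) (hXK : X ≤ K) (hzS : z ∈ S) (hzX : z ∈ X)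
    (hX8 : Nat.card X ≤ 8) : Nat.card (S ⊔ X : Subgroup G) ≤ 4 * Nat.card S := by
  have h1 := Cfsg.Agent.Lib.QuadAct.Basic.card_sup_mul_card_inf_of_le_normalizer S X
    (hSK.trans (hZ.le_normalizer_of_z hXK hzX))
  have h2 : zSub hZ.hzz ≤ S ⊓ X := by
    rintro x (rfl | rfl)
    · exact one_mem _
    · exact mem_inf.2 ⟨hzS, hzX⟩
  have h3 : 2 ≤ Nat.card (S ⊓ X : Subgroup G) := by
    rw [← hZ.card_zSub]
    exact Subgroup.card_le_of_le h2
  have h4 : Nat.card (S ⊔ X : Subgroup G) * 2 ≤ Nat.card S * 8 := by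
    calc Nat.card (S ⊔ X : Subgroup G) * 2 ≤ Nat.card (S ⊔ X : Subgroup G) * Nat.card (S ⊓ X : Subgroup G) :=
          Nat.mul_le_mul_left _ h3
      _ = Nat.card S * Nat.card X := h1
      _ ≤ Nat.card S * 8 := Nat.mul_le_mul_left _ hX8
  omega

/-- Bounding a join of a finite family. -/
theorem card_finset_sup_le (T : Finset (Subgroup G)) (hT : ∀ X ∈ T, X ≤ K ∧ z ∈ X ∧ Nat.card X ≤ 8) :
    (zSub hZ.hzz ⊔ T.sup id) ≤ K ∧ z ∈ (zSub hZ.hzz ⊔ T.sup id) ∧
      Nat.card (zSub hZ.hzz ⊔ T.sup id : Subgroup G) ≤ 2 * 4 ^ T.card := by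
  classical
  have hNK : zSub hZ.hzz ≤ K := by
    rintro x (rfl | rfl)
    · exact one_mem _
    · exact hZ.hzK
  induction T using Finset.induction_on with
  | empty =>
    simp only [Finset.sup_empty, Finset.card_empty, pow_zero, mul_one, sup_bot_eq]
    refine ⟨hNK, Or.inr rfl, ?_⟩
    rw [hZ.card_zSub]
  | insert X T hX ih =>
    obtain ⟨h1, h2, h3⟩ := ih (fun Y hY => hT Y (Finset.mem_insert_of_mem hY))
    obtain ⟨h4, h5, h6⟩ := hT X (Finset.mem_insert_self _ _)
    have e1 : zSub hZ.hzz ⊔ (insert X T).sup id = (zSub hZ.hzz ⊔ T.sup id) ⊔ X := by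
      rw [Finset.sup_insert, id, sup_assoc, sup_comm X]
    rw [e1]
    refine ⟨sup_le h1 h4, le_sup_left (a := zSub hZ.hzz ⊔ T.sup id) h2, ?_⟩
    have h7 := hZ.card_sup_le h1 h4 h2 h5 h6
    rw [Finset.card_insert_of_notMem hX, pow_succ]
    omega

/-- The order of `K` is at most `2 ^ 9`. -/
theorem card_le_512 : Nat.card K ≤ 512 := by
  classical
  have hH := hZ.hH
  haveI : Fintype G := Fintype.ofFinite G
  set s : Finset G := (Finset.univ.filter (· ∈ A)).erase 1 with hs
  have hs8 : s.card = 8 := by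
    rw [hs, Finset.card_erase_of_mem (by simp [one_mem])]
    have h1 : (Finset.univ.filter (· ∈ A)).card = Nat.card A := by
      rw [Nat.card_eq_fintype_card, Fintype.card_subtype]
    rw [h1, hZ.card_eq_nine]
  set f : G → Subgroup G := fun b => K ⊓ centralizer ({b} : Set G) with hf
  have hmem : ∀ b ∈ s, b ∈ A ∧ b ≠ 1 := by
    intro b hb
    rw [hs, Finset.mem_erase, Finset.mem_filter] at hb
    exact ⟨hb.2.2, hb.1⟩
  have hT4 : (s.image f).card ≤ 4 := by
    have h1 := Finset.mul_card_image_le_card (f := f) s 2 (by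
      intro X hX
      obtain ⟨b, hb, rfl⟩ := Finset.mem_image.1 hX
      obtain ⟨hbA, hb1⟩ := hmem b hb
      have hne : b ≠ b⁻¹ := by
        intro h
        apply hb1
        have h3 := hZ.cube_eq_one hbA
        have h4 : b * b = 1 := by
          nth_rewrite 2 [h]
          group
        rw [pow_succ, pow_two, h4, one_mul] at h3
        exact h3
      have hinv : b⁻¹ ∈ s := by
        rw [hs, Finset.mem_erase, Finset.mem_filter]
        exact ⟨by simpa using hb1, Finset.mem_univ _, inv_mem hbA⟩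
      have hfinv : f b⁻¹ = f b := by
        ext x
        simp only [hf, mem_inf, hH.mem_centralizer_singleton]
        refine and_congr_right (fun _ => ?_)
        constructor
        · intro h
          have c1 : Commute b⁻¹ x := h
          have c2 := c1.inv_left
          rw [inv_inv] at c2
          exact c2
        · intro h
          have c1 : Commute b x := h
          exact c1.inv_left
      have hsub : ({b, b⁻¹} : Finset G) ⊆ s.filter (fun y => f y = f b) := by
        intro y hy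
        rw [Finset.mem_insert, Finset.mem_singleton] at hy
        rcases hy with rfl | rfl
        · exact Finset.mem_filter.2 ⟨hb, rfl⟩
        · exact Finset.mem_filter.2 ⟨hinv, hfinv⟩
      have h2 := Finset.card_le_card hsub
      rwa [Finset.card_pair hne] at h2)
    omega
  have hT : ∀ X ∈ s.image f, X ≤ K ∧ z ∈ X ∧ Nat.card X ≤ 8 := by
    intro X hX
    obtain ⟨b, hb, rfl⟩ := Finset.mem_image.1 hX
    obtain ⟨hbA, hb1⟩ := hmem b hb
    refine ⟨inf_le_left, mem_inf.2 ⟨hZ.hzK, (hH.mem_centralizer_singleton).2 (hZ.hzA b hbA)⟩, ?_⟩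
    rcases hZ.fix_cases hbA hb1 with hsm | hY
    · have h1 : f b ≤ zSub hZ.hzz := hsm
      have h2 := Subgroup.card_le_of_le h1
      rw [hZ.card_zSub] at h2
      omega
    · exact IsBlock.card_le_eight hZ hY
  obtain ⟨-, -, h3⟩ := hZ.card_finset_sup_le (s.image f) hT
  have hK : K ≤ zSub hZ.hzz ⊔ (s.image f).sup id := by
    apply hH.gen_le le_rfl hH.hAK
    intro a ha ha1
    have hm : a ∈ s := by
      rw [hs, Finset.mem_erase, Finset.mem_filter]
      exact ⟨ha1, Finset.mem_univ _, ha⟩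
    have h4 : f a ≤ (s.image f).sup id :=
      Finset.le_sup (f := id) (Finset.mem_image_of_mem f hm)
    exact h4.trans le_sup_right
  have h5 := Subgroup.card_le_of_le hK
  have h6 : 2 * 4 ^ (s.image f).card ≤ 2 * 4 ^ 4 :=
    Nat.mul_le_mul_left _ (Nat.pow_le_pow_right (by norm_num) hT4)
  have h7 : 2 * 4 ^ 4 = 512 := by norm_num
  omega

/-- The order of `K` is more than `8`. -/
theorem card_gt_eight : 8 < Nat.card K := by
  classical
  have hH := hZ.hH
  obtain ⟨a₁, ha₁, ha₁1, hY⟩ := hZ.exists_fix_block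
  set Y : Subgroup G := K ⊓ centralizer ({a₁} : Set G) with hYdef
  have hYK : Y ≤ K := inf_le_left
  obtain ⟨x, hx, y, hy, hx1, hxz, hy1, hyz, hxy1, hxyz, -, -⟩ := hY.hpair
  have h5 : 5 ≤ Nat.card Y := by
    set t : Finset G := {1, z, x, y, x * y} with ht
    have ht5 : t.card = 5 := by
      have e1 : (1 : G) ≠ z := fun h => hZ.hz1 h.symm
      have e2 : x ≠ y := by
        intro h
        have h9 := hY.hsq x hx hx1 hxz
        rw [← h] at hxyz
        exact hxyz h9
      have e3 : x ≠ x * y := by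
        intro h
        exact hy1 (mul_eq_left.1 h.symm)
      have e4 : y ≠ x * y := by
        intro h
        exact hx1 (mul_eq_right.1 h.symm)
      rw [ht]
      rw [Finset.card_insert_of_notMem, Finset.card_insert_of_notMem, Finset.card_insert_of_notMem,
        Finset.card_insert_of_notMem, Finset.card_singleton]
      · simp [e4]
      · simp [e2, e3]
      · simp [Ne.symm hxz, Ne.symm hyz, Ne.symm hxyz]
      · simp [e1, Ne.symm hx1, Ne.symm hy1, Ne.symm hxy1]
    have h1 : ∀ w ∈ t, w ∈ Y := by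
      intro w hw
      rw [ht] at hw
      simp only [Finset.mem_insert, Finset.mem_singleton] at hw
      rcases hw with rfl | rfl | rfl | rfl | rfl
      · exact one_mem _
      · exact hY.hzY
      · exact hx
      · exact hy
      · exact mul_mem hx hy
    have h2 : Nat.card t ≤ Nat.card Y := Nat.card_le_card_of_injective
      (fun w : t => (⟨w.1, h1 w.1 w.2⟩ : Y)) (fun a b h => Subtype.ext (congrArg (fun w : Y => w.1) h))
    have h3 : Nat.card t = t.card := by simp
    omega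
  have hdvd : Nat.card Y ∣ Nat.card K := Subgroup.card_dvd_of_le hYK
  have hne : Nat.card Y ≠ Nat.card K := by
    intro h
    have h1 : Y = K := Subgroup.eq_of_le_of_card_ge hYK (le_of_eq h.symm)
    have h2 : a₁ ∈ A ⊓ centralizer (K : Set G) := by
      refine mem_inf.2 ⟨ha₁, mem_centralizer_iff.2 ?_⟩
      intro k hk
      rw [← h1] at hk
      exact ((hH.mem_centralizer_singleton).1 (mem_inf.1 hk).2).symm
    rw [hH.hfaith, mem_bot] at h2
    exact ha₁1 h2
  have hpos : 0 < Nat.card K := Nat.card_pos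
  obtain ⟨m, hm⟩ := hdvd
  have hm2 : 2 ≤ m := by
    by_contra hcon
    push Not at hcon
    interval_cases m
    · omega
    · omega
  calc 8 < 5 * 2 := by norm_num
    _ ≤ Nat.card Y * m := Nat.mul_le_mul h5 hm2
    _ = Nat.card K := hm.symm

/-- `K` is not abelian. -/
theorem not_comm : ∃ x ∈ K, ∃ y ∈ K, x * y ≠ y * x := by
  obtain ⟨a₁, ha₁, ha₁1, hY⟩ := hZ.exists_fix_block
  obtain ⟨x, hx, y, hy, -, -, -, -, -, -, hyx, -⟩ := hY.hpair
  refine ⟨x, (mem_inf.1 hx).1, y, (mem_inf.1 hy).1, ?_⟩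
  intro h
  rw [← h] at hyx
  exact hZ.hz1 (mul_eq_right.1 hyx.symm)

end HasZ

end Cfsg.Agent.Lib.LocalEven.OddAutA
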