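/-
Reductions for a minimal counterexample to the `Z*_p` statement: normal subgroups, `p'`-cores,
central subgroups, abelian subnormal subgroups.
-/
import Cfsg.Agent.Lib.Core.Basic
import Cfsg.Agent.Lib.Coprime.Action
import Cfsg.Agent.Lib.LocalEven.Isolated
import Cfsg.Agent.Lib.LocalEven.Util
import Cfsg.Prelude.Def_IsolatedElements

set_option autoImplicit false

namespace Cfsg.Agent.Lib.LocalEven.ZStar

open Subgroup Cfsg Cfsg.Agent.Lib.Core.Basic Cfsg.Agent.Lib.LocalEven.Isolated

universe u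
variable {G : Type u} [Group G]

/-- The hypotheses on a minimal counterexample to the `Z*_p` statement. -/
structure MinCE (p : ℕ) (x : G) : Prop where
  hx : orderOf x = p
  hiso : IsIsolated x
  hnz : ¬ InZStar p x
  hmin : ∀ (H : Subgroup G) (hxH : x ∈ H), H ≠ ⊤ → InZStar p (⟨x, hxH⟩ : ↥H)
  hquot : ∀ (N : Subgroup G) [N.Normal], N ≠ ⊥ → InZStar p (QuotientGroup.mk x : G ⧸ N)

variable [Finite G] {p : ℕ} [Fact p.Prime]

/-- Lifting `Z*` over a normal `p'`-subgroup. -/
theorem inZStar_of_quotient_coprime {x : G} (N : Subgroup G) [N.Normal]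
    (hN : (Nat.card N).Coprime p) (h : InZStar p (QuotientGroup.mk x : G ⧸ N)) : InZStar p x := by
  set W : Subgroup G := (pPrimeCore p (G ⧸ N)).comap (QuotientGroup.mk' N) with hW
  have hWn : W.Normal := (pPrimeCore_normal p (G ⧸ N)).comap _
  have hWle : W ≤ pPrimeCore p G := by
    refine le_pPrimeCore_of_orderOf hWn ?_
    intro y hy
    have h1 : (orderOf (QuotientGroup.mk y : G ⧸ N)).Coprime p :=
      orderOf_coprime_of_mem_pPrimeCore hy
    set m := orderOf (QuotientGroup.mk y : G ⧸ N) with hm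
    have h2 : y ^ m ∈ N := by
      rw [← QuotientGroup.eq_one_iff, QuotientGroup.mk_pow, hm, pow_orderOf_eq_one]
    have h3 : (orderOf (y ^ m)).Coprime p :=
      Nat.Coprime.coprime_dvd_left (Subgroup.orderOf_dvd_natCard _ h2) hN
    have h4 : orderOf y ∣ m * orderOf (y ^ m) := by
      apply orderOf_dvd_of_pow_eq_one
      rw [pow_mul, pow_orderOf_eq_one]
    exact Nat.Coprime.coprime_dvd_left h4 (Nat.Coprime.mul_left h1 h3)
  intro g
  apply hWle
  exact h (QuotientGroup.mk g)

/-- `K ⊔ A` is a `p'`-group if `K, A` are and `A` normalizes `K`. -/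
theorem coprime_card_sup {A K : Subgroup G} (hAK : A ≤ normalizer (K : Set G))
    (hA : (Nat.card A).Coprime p) (hK : (Nat.card K).Coprime p) :
    (Nat.card ↥(K ⊔ A)).Coprime p := by
  rw [coprime_card_iff_forall_orderOf]
  intro y hy
  obtain ⟨k, hk, a, ha, rfl⟩ := Cfsg.Agent.Lib.Coprime.Action.exists_mul_of_mem_sup hAK hy
  have hpow : ∀ n : ℕ, ∃ k' ∈ K, (k * a) ^ n = k' * a ^ n := by
    intro n
    induction n with
    | zero => exact ⟨1, one_mem _, by simp⟩
    | succ n ih =>
      obtain ⟨k', hk', he⟩ := ih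
      have han : a ^ n ∈ normalizer (K : Set G) := pow_mem (hAK ha) n
      refine ⟨k' * (a ^ n * k * (a ^ n)⁻¹), mul_mem hk' ((mem_normalizer_iff.1 han _).1 hk), ?_⟩
      rw [pow_succ, he, pow_succ]
      group
  obtain ⟨k', hk', he⟩ := hpow (Nat.card A)
  have ha1 : a ^ Nat.card A = 1 := by
    have := pow_card_eq_one' (x := (⟨a, ha⟩ : A))
    exact congrArg Subtype.val this
  rw [ha1, mul_one] at he
  have hk1 : k' ^ Nat.card K = 1 := by
    have := pow_card_eq_one' (x := (⟨k', hk'⟩ : K))
    exact congrArg Subtype.val this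
  have hd : orderOf (k * a) ∣ Nat.card A * Nat.card K := by
    apply orderOf_dvd_of_pow_eq_one
    rw [pow_mul, he, hk1]
  exact Nat.Coprime.coprime_dvd_left hd (Nat.Coprime.mul_left hA hK)

namespace MinCE

variable {x : G}

set_option linter.unusedSectionVars false

theorem pPrimeCore_eq_bot (h : MinCE p x) : pPrimeCore p G = ⊥ := by
  by_contra hne
  exact h.hnz (inZStar_of_quotient_coprime _ pPrimeCore_coprime (h.hquot _ hne))

theorem hxk (h : MinCE p x) : ∃ k : ℕ, orderOf x = p ^ k := ⟨1, by simpa using h.hx⟩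

theorem x_ne_one (h : MinCE p x) : x ≠ 1 := by
  rintro rfl
  have := h.hx
  rw [orderOf_one] at this
  exact (Fact.out : p.Prime).one_lt.ne this

/-- A central `x` would be in `Z*`. -/
theorem not_central (h : MinCE p x) : ¬ ∀ g : G, g * x = x * g := by
  intro hc
  apply h.hnz
  intro g
  have : g * x * g⁻¹ * x⁻¹ = 1 := by
    rw [hc g]; group
  rw [this]
  exact one_mem _

/-- `x` cannot lie in the centre of a normal subgroup. -/
theorem false_of_central_in_normal (h : MinCE p x) {H : Subgroup G} (hH : H.Normal) (hxH : x ∈ H)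
    (hc : ∀ y ∈ H, y * x = x * y) : False := by
  apply h.not_central
  intro g
  have h1 : g * x * g⁻¹ ∈ H := hH.conj_mem x hxH g
  have h2 : Commute x (g * x * g⁻¹) := (hc _ h1).symm
  have h3 := h.hiso g h2
  calc g * x = g * x * g⁻¹ * g := by group
    _ = x * g := by rw [h3]

/-- A subnormal `p'`-subgroup is trivial. -/
theorem eq_bot_of_subnormal_coprime (h : MinCE p x) {K : Subgroup G} (hK : K.IsSubnormal)
    (hc : (Nat.card K).Coprime p) : K = ⊥ := by
  have := le_pPrimeCore_of_isSubnormal hK hc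
  rwa [h.pPrimeCore_eq_bot, le_bot_iff] at this

/-- The commutators `[g, x]` in a proper subgroup with trivial `p'`-core. -/
theorem commute_of_map_core_eq_bot (h : MinCE p x) {H : Subgroup G} (hxH : x ∈ H) (hne : H ≠ ⊤)
    (hb : (pPrimeCore p H).map H.subtype = ⊥) : ∀ y ∈ H, y * x = x * y := by
  intro y hy
  have h1 := h.hmin H hxH hne ⟨y, hy⟩
  have h2 : y * x * y⁻¹ * x⁻¹ ∈ (pPrimeCore p H).map H.subtype := ⟨_, h1, rfl⟩
  rw [hb, mem_bot] at h2
  calc y * x = (y * x * y⁻¹ * x⁻¹) * (x * y) := by group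
    _ = x * y := by rw [h2, one_mul]

/-- A normal subgroup containing `x` is the whole group. -/
theorem eq_top_of_normal_of_mem (h : MinCE p x) {H : Subgroup G} (hH : H.Normal) (hxH : x ∈ H) :
    H = ⊤ := by
  by_contra hne
  have hsub : H.IsSubnormal := hH.isSubnormal
  have hb : (pPrimeCore p H).map H.subtype = ⊥ := by
    have := map_pPrimeCore_le_of_isSubnormal (p := p) hsub
    rwa [h.pPrimeCore_eq_bot, le_bot_iff] at this
  exact h.false_of_central_in_normal hH hxH (h.commute_of_map_core_eq_bot hxH hne hb)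

/-- An element of order prime to `q` in `N⟨x⟩`, with `x ^ q = 1`, lies in `N`. -/
theorem mem_of_mem_sup_of_coprime {x : G} {N : Subgroup G} (hN : N.Normal) {y : G} {q : ℕ}
    (hxq : x ^ q = 1) (hy : y ∈ N ⊔ zpowers x) (hc : (orderOf y).Coprime q) : y ∈ N := by
  have hy' := hy
  rw [mem_sup_of_normal_left] at hy'
  obtain ⟨n, hn, z, hz, rfl⟩ := hy'
  obtain ⟨k, rfl⟩ := mem_zpowers_iff.1 hz
  have hq : (n * x ^ k) ^ q ∈ N := by
    rw [← QuotientGroup.eq_one_iff, QuotientGroup.mk_pow, QuotientGroup.mk_mul,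
      (QuotientGroup.eq_one_iff n).2 hn, one_mul, ← QuotientGroup.mk_pow, ← zpow_natCast,
      ← zpow_mul, mul_comm, zpow_mul, zpow_natCast, hxq, one_zpow]
    rfl
  obtain ⟨r, hr⟩ := exists_pow_eq_self_of_coprime hc.symm
  rw [← hr]
  exact pow_mem hq r

/-- `N⟨x⟩ = G` or `N` is central, for a normal subgroup `N`. -/
theorem sup_eq_top_or_le_center (h : MinCE p x) {N : Subgroup G} (hN : N.Normal) :
    N ⊔ zpowers x = ⊤ ∨ N ≤ center G := by
  by_cases hne : N ⊔ zpowers x = ⊤
  · exact Or.inl hne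
  right
  set H := N ⊔ zpowers x with hH
  have hxH : x ∈ H := mem_sup_right (mem_zpowers x)
  have hNH : N ≤ H := le_sup_left
  set T := (pPrimeCore p H).map H.subtype with hT
  have hTN : T ≤ N := by
    rintro _ ⟨y, hy, rfl⟩
    have h1 : (orderOf y).Coprime p := orderOf_coprime_of_mem_pPrimeCore hy
    refine mem_of_mem_sup_of_coprime hN (q := p) ?_ y.2 (by simpa using h1)
    rw [← h.hx]; exact pow_orderOf_eq_one x
  have hTnorm : (T.subgroupOf N).Normal := by
    refine ⟨fun t ht n => ?_⟩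
    rw [mem_subgroupOf] at ht ⊢
    obtain ⟨y, hy, hyt⟩ := ht
    refine ⟨⟨(n : G), hNH n.2⟩ * y * ⟨(n : G), hNH n.2⟩⁻¹,
      (pPrimeCore_normal p H).conj_mem y hy _, ?_⟩
    have hyt' : (y : G) = t := hyt
    simp [hyt']
  have hTsub : T.IsSubnormal := IsSubnormal.step T N hTN hN.isSubnormal hTnorm
  have hTc : (Nat.card T).Coprime p := by
    rw [hT, Subgroup.card_map_of_injective H.subtype_injective]
    exact pPrimeCore_coprime
  have hTb : T = ⊥ := h.eq_bot_of_subnormal_coprime hTsub hTc
  have hcomm := h.commute_of_map_core_eq_bot hxH hne hTb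
  have hxC : x ∈ centralizer (N : Set G) := by
    rw [mem_centralizer_iff]
    intro n hn
    exact (hcomm n (hNH hn))
  have htop : centralizer (N : Set G) = ⊤ := h.eq_top_of_normal_of_mem inferInstance hxC
  intro n hn
  rw [mem_center_iff]
  intro g
  have : g ∈ centralizer (N : Set G) := by rw [htop]; trivial
  exact (mem_centralizer_iff.1 this n hn).symm

/-- Nontrivial normal subgroups are not central. -/
theorem eq_bot_of_le_center (h : MinCE p x) {N : Subgroup G} (hNc : N ≤ center G) : N = ⊥ := by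
  by_contra hne
  have hp : p.Prime := Fact.out
  have hN1 : Nat.card N ≠ 1 := fun h1 => hne (Subgroup.eq_bot_of_card_eq _ h1)
  have : Fact (Nat.minFac (Nat.card N)).Prime := ⟨Nat.minFac_prime hN1⟩
  obtain ⟨y₀, hy₀⟩ := exists_prime_orderOf_dvd_card' (Nat.minFac (Nat.card N)) (Nat.minFac_dvd _)
  set r := Nat.minFac (Nat.card N) with hr
  have hrp : r.Prime := Fact.out
  set y : G := (y₀ : G) with hy
  have hyN : y ∈ N := y₀.2
  have hyo : orderOf y = r := by rw [hy, Subgroup.orderOf_coe, hy₀]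
  have hyc : y ∈ center G := hNc hyN
  set Y := zpowers y with hYdef
  have hYc : Y ≤ center G := zpowers_le.2 hyc
  have hYn : Y.Normal := by
    refine ⟨fun z hz g => ?_⟩
    have := mem_center_iff.1 (hYc hz) g
    rw [this]
    simpa using hz
  have hY1 : Y ≠ ⊥ := by
    intro hb
    rw [hYdef, zpowers_eq_bot] at hb
    rw [hb, orderOf_one] at hyo
    exact hrp.one_lt.ne hyo
  have hYcard : Nat.card Y = r := by
    rw [hYdef, Nat.card_zpowers, hyo]
  by_cases hrpe : r = p
  swap
  · apply hY1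
    refine h.eq_bot_of_subnormal_coprime hYn.isSubnormal ?_
    rw [hYcard]
    exact (Nat.coprime_primes hrp hp).2 hrpe
  -- `Y` is central of order `p`
  have hq := h.hquot Y hY1
  set f : G →* G ⧸ Y := QuotientGroup.mk' Y with hf
  set W : Subgroup G := (pPrimeCore p (G ⧸ Y)).comap f with hW
  have hWn : W.Normal := (pPrimeCore_normal p (G ⧸ Y)).comap _
  have hcomW : ∀ g : G, g * x * g⁻¹ * x⁻¹ ∈ W := fun g => hq (QuotientGroup.mk g)
  have hYW : Y ≤ W := by
    intro z hz
    have : f z = 1 := (QuotientGroup.eq_one_iff z).2 hz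
    show f z ∈ pPrimeCore p (G ⧸ Y)
    rw [this]
    exact one_mem _
  have hMn : (W ⊔ zpowers x).Normal := by
    refine ⟨fun m hm g => ?_⟩
    have hle : W ⊔ zpowers x ≤ (W ⊔ zpowers x).comap (MulAut.conj g).toMonoidHom := by
      refine sup_le ?_ ?_
      · intro w hw
        exact mem_sup_left (hWn.conj_mem w hw g)
      · rw [zpowers_le]
        show g * x * g⁻¹ ∈ W ⊔ zpowers x
        have : g * x * g⁻¹ = (g * x * g⁻¹ * x⁻¹) * x := by group
        rw [this]
        exact mul_mem (mem_sup_left (hcomW g)) (mem_sup_right (mem_zpowers x))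
    exact hle hm
  have hMtop : W ⊔ zpowers x = ⊤ :=
    h.eq_top_of_normal_of_mem hMn (mem_sup_right (mem_zpowers x))
  -- Schur-Zassenhaus in `W`
  set Y' : Subgroup W := Y.subgroupOf W with hY'
  have hY'n : Y'.Normal := hYn.subgroupOf W
  have hY'card : Nat.card Y' = p := by
    rw [hY', ← hrpe, ← hYcard]
    exact Nat.card_congr (Subgroup.subgroupOfEquivOfLe hYW).toEquiv
  set φ : W →* G ⧸ Y := f.comp W.subtype with hφ
  have hker : φ.ker = Y' := by
    ext w
    rw [MonoidHom.mem_ker, hY', mem_subgroupOf]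
    exact QuotientGroup.eq_one_iff (w : G)
  have hidx : Y'.index.Coprime p := by
    rw [← hker, Subgroup.index_ker]
    have hle : φ.range ≤ pPrimeCore p (G ⧸ Y) := by
      rintro _ ⟨w, rfl⟩
      exact w.2
    exact Nat.Coprime.coprime_dvd_left (Subgroup.card_dvd_of_le hle) pPrimeCore_coprime
  obtain ⟨K, hK⟩ := Subgroup.exists_right_complement'_of_coprime (N := Y') (by
    rw [hY'card]; exact hidx.symm)
  have hKcard : Nat.card K = Y'.index := hK.symm.index_eq_card.symm
  have hKn : K.Normal := by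
    refine ⟨fun k hk w => ?_⟩
    obtain ⟨⟨a, b⟩, hab, -⟩ := hK.existsUnique w
    have hab' : (a : W) * (b : W) = w := hab
    have haY : ((a : W) : G) ∈ Y := a.2
    have hac : ((a : W) : G) ∈ center G := hYc haY
    have he : w * k * w⁻¹ = (b : W) * k * (b : W)⁻¹ := by
      apply Subtype.ext
      rw [← hab']
      have hcomm := mem_center_iff.1 hac (((b : W) : G) * (k : G) * ((b : W) : G)⁻¹)
      simp only [Subgroup.coe_mul, Subgroup.coe_inv]
      calc ((a : W) : G) * ((b : W) : G) * (k : G) * (((a : W) : G) * ((b : W) : G))⁻¹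
          = ((a : W) : G) * (((b : W) : G) * (k : G) * ((b : W) : G)⁻¹) * ((a : W) : G)⁻¹ := by group
        _ = (((b : W) : G) * (k : G) * ((b : W) : G)⁻¹) * ((a : W) : G) * ((a : W) : G)⁻¹ := by rw [← hcomm]
        _ = _ := by group
    rw [he]
    exact mul_mem (mul_mem b.2 hk) (inv_mem b.2)
  have hKb : K.map W.subtype = ⊥ := by
    refine h.eq_bot_of_subnormal_coprime ?_ ?_
    · refine IsSubnormal.step _ W (map_subtype_le K) hWn.isSubnormal ?_
      have : (K.map W.subtype).subgroupOf W = K := by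
        ext w
        simp [mem_subgroupOf]
      rw [this]
      exact hKn
    · rw [Subgroup.card_map_of_injective W.subtype_injective, hKcard]
      exact hidx
  have hKbot : K = ⊥ := by
    rw [eq_bot_iff]
    intro k hk
    have : (k : G) ∈ K.map W.subtype := ⟨k, hk, rfl⟩
    rw [hKb, mem_bot] at this
    rw [mem_bot]
    exact Subtype.ext this
  have hWY : W ≤ Y := by
    intro w hw
    obtain ⟨⟨a, b⟩, hab, -⟩ := hK.existsUnique ⟨w, hw⟩
    have hb : (b : W) = 1 := by
      have hbb : ∀ w ∈ K, w = 1 := by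
        intro w hw
        rw [hKbot, mem_bot] at hw
        exact hw
      exact hbb _ b.2
    have hab' : (a : W) * (b : W) = ⟨w, hw⟩ := hab
    rw [hb, mul_one] at hab'
    have : ((a : W) : G) ∈ Y := a.2
    rw [hab'] at this
    exact this
  apply h.not_central
  intro g
  have hg : g ∈ W ⊔ zpowers x := by rw [hMtop]; trivial
  rw [mem_sup_of_normal_left] at hg
  obtain ⟨w, hw, z, hz, rfl⟩ := hg
  obtain ⟨k, rfl⟩ := mem_zpowers_iff.1 hz
  have hwc := mem_center_iff.1 (hYc (hWY hw)) x
  have hxk : Commute x (x ^ k) := (Commute.refl x).zpow_right k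
  calc w * x ^ k * x = w * (x ^ k * x) := by group
    _ = w * (x * x ^ k) := by rw [hxk.eq]
    _ = (w * x) * x ^ k := by group
    _ = (x * w) * x ^ k := by rw [hwc]
    _ = x * (w * x ^ k) := by group

theorem sup_eq_top (h : MinCE p x) {N : Subgroup G} (hN : N.Normal) (hN1 : N ≠ ⊥) :
    N ⊔ zpowers x = ⊤ := by
  rcases h.sup_eq_top_or_le_center hN with h1 | h1
  · exact h1
  · exact absurd (h.eq_bot_of_le_center h1) hN1

/-- A nontrivial normal `p`-subgroup does not exist. -/
theorem eq_bot_of_normal_isPGroup (h : MinCE p x) {N : Subgroup G} (hN : N.Normal)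
    (hNp : IsPGroup p N) : N = ⊥ := by
  by_contra hne
  have htop := h.sup_eq_top hN hne
  have hxp : IsPGroup p (zpowers x) := by
    refine IsPGroup.of_card (n := 1) ?_
    rw [Nat.card_zpowers, h.hx, pow_one]
  have hP : IsPGroup p ↥(N ⊔ zpowers x) := by
    have := hN
    exact IsPGroup.to_sup_of_normal_left hNp hxp
  apply h.not_central
  intro g
  have := commute_of_mem_isPGroup h.hiso hP (mem_sup_right (mem_zpowers x))
    (show g ∈ N ⊔ zpowers x by rw [htop]; trivial)
  exact this.eq.symm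

theorem pCore_eq_bot (h : MinCE p x) : pCore p G = ⊥ :=
  h.eq_bot_of_normal_isPGroup (pCore_normal p G) pCore_isPGroup

/-- A subnormal `p`-subgroup is trivial. -/
theorem eq_bot_of_subnormal_isPGroup (h : MinCE p x) {K : Subgroup G} (hK : K.IsSubnormal)
    (hc : IsPGroup p K) : K = ⊥ := by
  have := le_pCore_of_isSubnormal hK hc
  rwa [h.pCore_eq_bot, le_bot_iff] at this

/-- An abelian subnormal subgroup is trivial. -/
theorem eq_bot_of_subnormal_comm (h : MinCE p x) {K : Subgroup G} (hK : K.IsSubnormal)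
    (hc : IsMulCommutative K) : K = ⊥ := by
  by_contra hne
  have hp : p.Prime := Fact.out
  have hN1 : Nat.card K ≠ 1 := fun h1 => hne (Subgroup.eq_bot_of_card_eq _ h1)
  have : Fact (Nat.minFac (Nat.card K)).Prime := ⟨Nat.minFac_prime hN1⟩
  obtain ⟨y₀, hy₀⟩ := exists_prime_orderOf_dvd_card' (Nat.minFac (Nat.card K)) (Nat.minFac_dvd _)
  set r := Nat.minFac (Nat.card K) with hr
  have hrp : r.Prime := Fact.out
  set y : G := (y₀ : G) with hy
  have hyo : orderOf y = r := by rw [hy, Subgroup.orderOf_coe, hy₀]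
  set Y := zpowers y with hYdef
  have hYK : Y ≤ K := zpowers_le.2 y₀.2
  have hYsub : Y.IsSubnormal := by
    refine IsSubnormal.step Y K hYK hK ⟨fun a _ b => ?_⟩
    have he : b * a * b⁻¹ = a := by
      rw [hc.is_comm.comm b a]; group
    rw [he]
    assumption
  have hY1 : Y ≠ ⊥ := by
    intro hb
    rw [hYdef, zpowers_eq_bot] at hb
    rw [hb, orderOf_one] at hyo
    exact hrp.one_lt.ne hyo
  have hYcard : Nat.card Y = r := by
    rw [hYdef, Nat.card_zpowers, hyo]
  by_cases hrpe : r = p
  · apply hY1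
    refine h.eq_bot_of_subnormal_isPGroup hYsub ?_
    refine IsPGroup.of_card (n := 1) ?_
    rw [hYcard, hrpe, pow_one]
  · apply hY1
    refine h.eq_bot_of_subnormal_coprime hYsub ?_
    rw [hYcard]
    exact (Nat.coprime_primes hrp hp).2 hrpe

end MinCE

end Cfsg.Agent.Lib.LocalEven.ZStar
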