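/-
A minimal counterexample to the `Z*_p` statement: a minimal normal subgroup is simple.
-/
import Cfsg.Agent.Lib.LocalEven.ZStar

set_option autoImplicit false

namespace Cfsg.Agent.Lib.LocalEven.ZStar2

open Subgroup Cfsg Cfsg.Agent.Lib.Core.Basic Cfsg.Agent.Lib.LocalEven.Isolated
  Cfsg.Agent.Lib.LocalEven.ZStar Cfsg.Agent.Lib.LocalEven.Util

universe u

/-- The "telescoping" computation in an abelian group. -/
theorem comm_norm_identity {B : Type*} [Group B] (hB : ∀ a b : B, a * b = b * a) (σ : B →* B)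
    (c : ℕ → B) (m : ℕ) (hσ : ∀ i, σ (c i) = c (i + 1)) (hm : c (m + 1) = c 0)
    (hc : c 0 ^ (m + 1) = 1) (J : Subgroup B) (hJ : ∀ i < m, c (i + 1) ∈ J) :
    ∃ g u : B, u * σ g = g ∧ σ u = u ∧ ∃ r ∈ J, u = r * c 0 := by
  let _ : CommGroup B := { ‹Group B› with mul_comm := hB }
  refine ⟨∏ i ∈ Finset.range (m + 1), c i ^ i, ∏ i ∈ Finset.range (m + 1), c i, ?_, ?_,
    ∏ i ∈ Finset.range m, c (i + 1), Subgroup.prod_mem _ (fun i hi => hJ i (Finset.mem_range.1 hi)),
    by rw [Finset.prod_range_succ']⟩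
  · have h1 : ∏ i ∈ Finset.range (m + 1), c i ^ i = ∏ i ∈ Finset.range m, c (i + 1) ^ (i + 1) := by
      rw [Finset.prod_range_succ']; simp
    have h2 : σ (∏ i ∈ Finset.range (m + 1), c i ^ i) =
        (∏ i ∈ Finset.range m, c (i + 1) ^ i) * c 0 ^ m := by
      rw [map_prod]
      simp only [map_pow, hσ]
      rw [Finset.prod_range_succ, hm]
    have h3 : ∏ i ∈ Finset.range (m + 1), c i = (∏ i ∈ Finset.range m, c (i + 1)) * c 0 := by
      rw [Finset.prod_range_succ']
    have h4 : ∏ i ∈ Finset.range m, c (i + 1) ^ (i + 1) =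
        (∏ i ∈ Finset.range m, c (i + 1)) * ∏ i ∈ Finset.range m, c (i + 1) ^ i := by
      rw [← Finset.prod_mul_distrib]
      apply Finset.prod_congr rfl
      intro i _
      rw [pow_succ, mul_comm]
    have h5 : c 0 * c 0 ^ m = 1 := by rw [← pow_succ', hc]
    rw [h2, h3, h1, h4, mul_mul_mul_comm, h5, mul_one]
  · rw [map_prod]
    simp only [hσ]
    rw [Finset.prod_range_succ, hm, Finset.prod_range_succ' c]

variable {G : Type u} [Group G] [Finite G] {p : ℕ} [Fact p.Prime] {x : G}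

set_option linter.unusedSectionVars false

namespace MinCE'

open Cfsg.Agent.Lib.LocalEven.ZStar.MinCE

/-- The group element built from a commuting family of `x`-conjugates. -/
theorem false_of_family (h : MinCE p x) (c : G) (hc1 : c ^ p = 1)
    (hcomm : ∀ i j : ℕ, (x ^ i * c * (x ^ i)⁻¹) * (x ^ j * c * (x ^ j)⁻¹) =
      (x ^ j * c * (x ^ j)⁻¹) * (x ^ i * c * (x ^ i)⁻¹))
    (J : Subgroup G) (hJ : ∀ i : ℕ, 0 < i → i < p → x ^ i * c * (x ^ i)⁻¹ ∈ J) (hcJ : c ∉ J) :
    False := by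
  have hp : p.Prime := Fact.out
  have hxp : x ^ p = 1 := by rw [← h.hx]; exact pow_orderOf_eq_one x
  obtain ⟨m, rfl⟩ : ∃ m, p = m + 1 := ⟨p - 1, (Nat.sub_add_cancel hp.one_lt.le).symm⟩
  let C : ℕ → G := fun i => x ^ i * c * (x ^ i)⁻¹
  have hCs : ∀ i, x * C i * x⁻¹ = C (i + 1) := by
    intro i
    simp only [C]
    rw [pow_succ']
    group
  have hC0 : C 0 = c := by simp [C]
  have hCp : C (m + 1) = c := by simp [C, hxp]
  let S : Set G := Set.range C
  let B : Subgroup G := closure S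
  have hScomm : ∀ a ∈ S, ∀ b ∈ S, a * b = b * a := by
    rintro _ ⟨i, rfl⟩ _ ⟨j, rfl⟩
    exact hcomm i j
  have hB : ∀ a b : B, a * b = b * a := fun a b =>
    (isMulCommutative_closure hScomm).is_comm.comm a b
  have hnorm : ∀ b ∈ B, x * b * x⁻¹ ∈ B := by
    intro b hb
    induction hb using closure_induction with
    | mem y hy =>
      obtain ⟨i, rfl⟩ := hy
      rw [hCs]
      exact subset_closure ⟨i + 1, rfl⟩
    | one => simp
    | mul a b _ _ iha ihb =>
      have : x * (a * b) * x⁻¹ = (x * a * x⁻¹) * (x * b * x⁻¹) := by group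
      rw [this]
      exact mul_mem iha ihb
    | inv a _ iha =>
      have : x * a⁻¹ * x⁻¹ = (x * a * x⁻¹)⁻¹ := by group
      rw [this]
      exact inv_mem iha
  let σ : B →* B :=
    { toFun := fun b => ⟨x * b * x⁻¹, hnorm b b.2⟩
      map_one' := by apply Subtype.ext; simp
      map_mul' := by
        intro a b
        apply Subtype.ext
        simp only [Subgroup.coe_mul]
        group }
  let c' : ℕ → B := fun i => ⟨C i, subset_closure ⟨i, rfl⟩⟩
  have hσ : ∀ i, σ (c' i) = c' (i + 1) := fun i => Subtype.ext (hCs i)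
  have hm : c' (m + 1) = c' 0 := Subtype.ext (by
    show C (m + 1) = C 0
    rw [hCp, hC0])
  have hc' : c' 0 ^ (m + 1) = 1 := Subtype.ext (by
    show (C 0) ^ (m + 1) = 1
    rw [hC0, hc1])
  obtain ⟨g, u, h1, h2, r, hr, hu⟩ := comm_norm_identity hB σ c' m hσ hm hc' (J.subgroupOf B) (by
    intro i hi
    rw [mem_subgroupOf]
    exact hJ (i + 1) (Nat.succ_pos i) (by omega))
  have h1' : (u : G) * (x * (g : G) * x⁻¹) = g := congrArg Subtype.val h1
  have h2' : x * (u : G) * x⁻¹ = u := congrArg Subtype.val h2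
  have hu' : (u : G) = r * c := by
    have := congrArg Subtype.val hu
    rw [Subgroup.coe_mul] at this
    rw [this]
    show (r : G) * C 0 = _
    rw [hC0]
  have hconj : (g : G) * x * (g : G)⁻¹ = u * x := by
    have e1 : x * (g : G) * x⁻¹ = (u : G)⁻¹ * g := by
      rw [eq_inv_mul_iff_mul_eq]; exact h1'
    calc (g : G) * x * (g : G)⁻¹ = (x * (g : G) * x⁻¹ * (g : G)⁻¹)⁻¹ * x := by group
      _ = _ := by rw [e1]; group
  have hcom : Commute x ((g : G) * x * (g : G)⁻¹) := by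
    rw [hconj]
    show x * ((u : G) * x) = (u : G) * x * x
    have : x * (u : G) = u * x := by
      calc x * (u : G) = (x * (u : G) * x⁻¹) * x := by group
        _ = u * x := by rw [h2']
    rw [← mul_assoc, this]
  have hiso := h.hiso (g : G) hcom
  rw [hconj] at hiso
  have hu1 : (u : G) = 1 := mul_eq_right.1 hiso
  apply hcJ
  have hrJ : (r : G) ∈ J := hr
  have : c = (r : G)⁻¹ := by
    rw [hu'] at hu1
    exact (inv_eq_of_mul_eq_one_right hu1).symm
  rw [this]
  exact inv_mem hrJ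

end MinCE'

/-- Minimal nontrivial subgroups of `N` normalized by `N`. -/
structure IsMinN (N L : Subgroup G) : Prop where
  le : L ≤ N
  ne : L ≠ ⊥
  nor : N ≤ normalizer (L : Set G)
  min : ∀ L' : Subgroup G, L' ≤ L → L' ≠ ⊥ → N ≤ normalizer (L' : Set G) → L' = L

omit [Finite G] in
theorem mem_conj_iff {a y : G} {L : Subgroup G} :
    y ∈ L.map (MulAut.conj a).toMonoidHom ↔ a⁻¹ * y * a ∈ L := by
  constructor
  · rintro ⟨z, hz, rfl⟩
    simpa [mul_assoc] using hz
  · intro hy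
    exact ⟨_, hy, by simp [mul_assoc]⟩

omit [Finite G] in
theorem map_conj_inv_map (a : G) (L : Subgroup G) :
    (L.map (MulAut.conj a).toMonoidHom).map (MulAut.conj a⁻¹).toMonoidHom = L := by
  ext y
  simp only [mem_conj_iff]
  simp [mul_assoc]

namespace IsMinN

omit [Finite G] in
theorem conj_le {N L : Subgroup G} (hN : N.Normal) (hL : L ≤ N) (a : G) :
    L.map (MulAut.conj a).toMonoidHom ≤ N := by
  rintro _ ⟨l, hl, rfl⟩
  exact hN.conj_mem l (hL hl) a

theorem conj_nor {N L : Subgroup G} (hN : N.Normal) (hL : N ≤ normalizer (L : Set G)) (a : G) :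
    N ≤ normalizer ((L.map (MulAut.conj a).toMonoidHom : Subgroup G) : Set G) := by
  intro n hn
  apply mem_normalizer_of_conj_le
  intro y hy
  rw [mem_conj_iff] at hy ⊢
  have hn' : a⁻¹ * n * a ∈ N := by
    have := hN.conj_mem n hn a⁻¹
    simpa using this
  have := (mem_normalizer_iff.1 (hL hn') _).1 hy
  have e : a⁻¹ * (n * y * n⁻¹) * a = a⁻¹ * n * a * (a⁻¹ * y * a) * (a⁻¹ * n * a)⁻¹ := by group
  rw [e]
  exact this

theorem conj {N L : Subgroup G} (hN : N.Normal) (h : IsMinN N L) (a : G) :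
    IsMinN N (L.map (MulAut.conj a).toMonoidHom) := by
  refine ⟨conj_le hN h.le a, ?_, conj_nor hN h.nor a, ?_⟩
  · intro hb
    apply h.ne
    rw [← map_conj_inv_map a L, hb, Subgroup.map_bot]
  · intro L' hL' hne hnor
    have h1 := h.min (L'.map (MulAut.conj a⁻¹).toMonoidHom) (by
      rintro _ ⟨l, hl, rfl⟩
      have := hL' hl
      rw [mem_conj_iff] at this
      simpa using this) (by
        intro hb
        apply hne
        have := map_conj_inv_map a⁻¹ L'
        rw [inv_inv, hb, Subgroup.map_bot] at this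
        exact this.symm) (conj_nor hN hnor a⁻¹)
    rw [← h1]
    have := map_conj_inv_map a⁻¹ L'
    rw [inv_inv] at this
    exact this.symm

theorem inf_eq_bot {N L₁ L₂ : Subgroup G} (h₁ : IsMinN N L₁) (h₂ : IsMinN N L₂) (hne : L₁ ≠ L₂) :
    L₁ ⊓ L₂ = ⊥ := by
  by_contra hb
  have hnor : N ≤ normalizer ((L₁ ⊓ L₂ : Subgroup G) : Set G) := by
    intro n hn
    apply mem_normalizer_of_conj_le
    rintro y ⟨hy1, hy2⟩
    exact ⟨(mem_normalizer_iff.1 (h₁.nor hn) y).1 hy1, (mem_normalizer_iff.1 (h₂.nor hn) y).1 hy2⟩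
  have e1 := h₁.min _ inf_le_left hb hnor
  have e2 := h₂.min _ inf_le_right hb hnor
  exact hne (e1.symm.trans e2)

omit [Finite G] in
theorem commute_of_inf {N L₁ L₂ : Subgroup G} (h₁L : L₁ ≤ N) (h₁N : N ≤ normalizer (L₁ : Set G))
    (h₂L : L₂ ≤ N) (h₂N : N ≤ normalizer (L₂ : Set G)) (hb : L₁ ⊓ L₂ = ⊥) {a b : G} (ha : a ∈ L₁)
    (hb' : b ∈ L₂) : a * b = b * a := by
  have h1 : a * b * a⁻¹ * b⁻¹ ∈ L₁ ⊓ L₂ := by
    rw [mem_inf]
    constructor
    · have : a * b * a⁻¹ * b⁻¹ = a * (b * a⁻¹ * b⁻¹) := by group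
      rw [this]
      exact mul_mem ha ((mem_normalizer_iff.1 (h₁N (h₂L hb')) _).1 (inv_mem ha))
    · exact mul_mem ((mem_normalizer_iff.1 (h₂N (h₁L ha)) _).1 hb') (inv_mem hb')
  rw [hb, mem_bot] at h1
  calc a * b = (a * b * a⁻¹ * b⁻¹) * (b * a) := by group
    _ = b * a := by rw [h1, one_mul]

end IsMinN

open Cfsg.Agent.Lib.LocalEven.ZStar.MinCE in
/-- Main step: a minimal subgroup normalized by the minimal normal subgroup `N` equals `N`. -/
theorem eq_of_isMinN (h : MinCE p x) {N L : Subgroup G} (hN : N.Normal) (hN1 : N ≠ ⊥)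
    (hNmin : ∀ N' : Subgroup G, N'.Normal → N' ≠ ⊥ → N' ≤ N → N' = N) (hL : IsMinN N L) : L = N := by
  have hp : p.Prime := Fact.out
  have hxp : x ^ p = 1 := by rw [← h.hx]; exact pow_orderOf_eq_one x
  have htop := h.sup_eq_top hN hN1
  by_cases hxL : x ∈ normalizer (L : Set G)
  · -- `L` is normal in `G`
    have hle : N ⊔ zpowers x ≤ normalizer (L : Set G) := sup_le hL.nor (zpowers_le.2 hxL)
    rw [htop, top_le_iff, normalizer_eq_top_iff] at hle
    exact hNmin L hle hL.ne hL.le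
  exfalso
  -- `L` is subnormal
  have hLsub : L.IsSubnormal :=
    IsSubnormal.step L N hL.le hN.isSubnormal (normal_subgroupOf_of_le_normalizer hL.nor)
  -- the conjugates
  let Lc : ℕ → Subgroup G := fun i => L.map (MulAut.conj (x ^ i)).toMonoidHom
  have hLcmin : ∀ i, IsMinN N (Lc i) := fun i => hL.conj hN _
  have hLc0 : Lc 0 = L := by
    ext y
    simp [Lc]
  -- distinctness
  have hne : ∀ i j : ℕ, i < j → j < p → Lc i ≠ Lc j := by
    intro i j hij hjp he
    apply hxL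
    have hd : x ^ (j - i) ∈ normalizer (L : Set G) := by
      apply mem_normalizer_of_conj_le
      intro y hy
      have h1 : x ^ j * y * (x ^ j)⁻¹ ∈ Lc i := by
        rw [he]
        exact ⟨y, hy, rfl⟩
      rw [mem_conj_iff] at h1
      have e : x ^ (j - i) * y * (x ^ (j - i))⁻¹ = (x ^ i)⁻¹ * (x ^ j * y * (x ^ j)⁻¹) * x ^ i := by
        have hj : x ^ j = x ^ i * x ^ (j - i) := by
          rw [← pow_add]; congr 1; omega
        rw [hj]
        group
      rw [e]
      exact h1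
    have hcop : (j - i).Coprime (orderOf x) := by
      rw [h.hx]
      exact Nat.Coprime.symm ((Nat.Prime.coprime_iff_not_dvd hp).2
        (Nat.not_dvd_of_pos_of_lt (by omega) (by omega)))
    obtain ⟨r, hr⟩ := exists_pow_eq_self_of_coprime hcop
    rw [← hr]
    exact pow_mem hd r
  have hne' : ∀ i j : ℕ, i < p → j < p → i ≠ j → Lc i ≠ Lc j := by
    intro i j hi hj hij
    rcases Nat.lt_or_gt_of_ne hij with h1 | h1
    · exact hne i j h1 hj
    · exact (hne j i h1 hi).symm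
  have hcommL : ∀ i j : ℕ, i < p → j < p → i ≠ j → ∀ a ∈ Lc i, ∀ b ∈ Lc j, a * b = b * a := by
    intro i j hi hj hij a ha b hb
    exact IsMinN.commute_of_inf (hLcmin i).le (hLcmin i).nor (hLcmin j).le (hLcmin j).nor
      (IsMinN.inf_eq_bot (hLcmin i) (hLcmin j) (hne' i j hi hj hij)) ha hb
  -- the complement family
  let J : Subgroup G := ⨆ i : {i : ℕ // 0 < i ∧ i < p}, Lc i
  have hLJ : J ≤ centralizer (L : Set G) := by
    refine iSup_le ?_
    rintro ⟨i, hi0, hip⟩ y hy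
    rw [mem_centralizer_iff]
    intro l hl
    have hl' : l ∈ Lc 0 := by rw [hLc0]; exact hl
    exact hcommL 0 i hp.pos hip hi0.ne l hl' y hy
  have hNJ : N ≤ normalizer (J : Set G) := by
    intro n hn
    apply mem_normalizer_of_conj_le
    have hle : J ≤ J.comap (MulAut.conj n).toMonoidHom := by
      refine iSup_le ?_
      rintro ⟨i, hi0, hip⟩ y hy
      have h1 := (mem_normalizer_iff.1 ((hLcmin i).nor hn) y).1 hy
      exact (le_iSup (fun i : {i : ℕ // 0 < i ∧ i < p} => Lc i) ⟨i, hi0, hip⟩) h1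
    exact fun y hy => hle hy
  have hLJb : L ⊓ J = ⊥ := by
    by_contra hb
    have hnor : N ≤ normalizer ((L ⊓ J : Subgroup G) : Set G) := by
      intro n hn
      apply mem_normalizer_of_conj_le
      rintro y ⟨hy1, hy2⟩
      exact ⟨(mem_normalizer_iff.1 (hL.nor hn) y).1 hy1, (mem_normalizer_iff.1 (hNJ hn) y).1 hy2⟩
    have e1 := hL.min _ inf_le_left hb hnor
    have hLle : L ≤ J := by
      rw [← e1]; exact inf_le_right
    have hcomm : IsMulCommutative L := by
      refine ⟨⟨?_⟩⟩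
      rintro ⟨a, ha⟩ ⟨b, hb⟩
      apply Subtype.ext
      exact (mem_centralizer_iff.1 (hLJ (hLle hb)) a ha)
    exact hL.ne (h.eq_bot_of_subnormal_comm hLsub hcomm)
  -- an element of order `p` in `L`
  have hpL : p ∣ Nat.card L := by
    by_contra hnd
    apply hL.ne
    refine h.eq_bot_of_subnormal_coprime hLsub ?_
    exact ((Nat.Prime.coprime_iff_not_dvd hp).2 hnd).symm
  obtain ⟨c₀, hc₀⟩ := exists_prime_orderOf_dvd_card' p hpL
  set c : G := (c₀ : G) with hc
  have hcL : c ∈ L := c₀.2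
  have hco : orderOf c = p := by rw [hc, Subgroup.orderOf_coe, hc₀]
  have hc1 : c ^ p = 1 := by rw [← hco]; exact pow_orderOf_eq_one c
  have hcne : c ≠ 1 := by
    intro h1
    rw [h1, orderOf_one] at hco
    exact hp.one_lt.ne hco
  have hcJ : c ∉ J := by
    intro hcJ
    have : c ∈ L ⊓ J := ⟨hcL, hcJ⟩
    rw [hLJb, mem_bot] at this
    exact hcne this
  have hCmem : ∀ i : ℕ, x ^ i * c * (x ^ i)⁻¹ ∈ Lc i := fun i => ⟨c, hcL, rfl⟩
  have hred : ∀ i : ℕ, x ^ i = x ^ (i % p) := by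
    intro i
    conv_lhs => rw [← Nat.mod_add_div i p, pow_add, pow_mul, hxp, one_pow, mul_one]
  refine MinCE'.false_of_family h c hc1 ?_ J ?_ hcJ
  · intro i j
    rw [hred i, hred j]
    by_cases hij : i % p = j % p
    · rw [hij]
    · exact hcommL _ _ (Nat.mod_lt _ hp.pos) (Nat.mod_lt _ hp.pos) hij _ (hCmem _) _ (hCmem _)
  · intro i hi0 hip
    exact (le_iSup (fun i : {i : ℕ // 0 < i ∧ i < p} => Lc i) ⟨i, hi0, hip⟩) (hCmem i)

open Cfsg.Agent.Lib.LocalEven.ZStar.MinCE in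
/-- A minimal normal subgroup is simple. -/
theorem isSimpleGroup_of_minimal (h : MinCE p x) {N : Subgroup G} (hN : N.Normal) (hN1 : N ≠ ⊥)
    (hNmin : ∀ N' : Subgroup G, N'.Normal → N' ≠ ⊥ → N' ≤ N → N' = N) : IsSimpleGroup N := by
  haveI : Nontrivial N := (Subgroup.nontrivial_iff_ne_bot _).2 hN1
  refine ⟨fun T hT => ?_⟩
  by_cases hT1 : T = ⊥
  · exact Or.inl hT1
  right
  set T' : Subgroup G := T.map N.subtype with hT'
  have hT'N : T' ≤ N := map_subtype_le T
  have hT'1 : T' ≠ ⊥ := by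
    intro hb
    apply hT1
    rw [hT', Subgroup.map_eq_bot_iff_of_injective _ N.subtype_injective] at hb
    exact hb
  have hT'nor : N ≤ normalizer (T' : Set G) := by
    intro n hn
    apply mem_normalizer_of_conj_le
    rintro _ ⟨t, ht, rfl⟩
    exact ⟨⟨n, hn⟩ * t * ⟨n, hn⟩⁻¹, hT.conj_mem t ht _, by simp⟩
  let P : Subgroup G → Prop := fun L => L ≠ ⊥ ∧ L ≤ N ∧ N ≤ normalizer (L : Set G)
  obtain ⟨L, hLT, hLmin⟩ := Finite.exists_le_minimal (p := P) (a := T') ⟨hT'1, hT'N, hT'nor⟩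
  have hLisMin : IsMinN N L := by
    refine ⟨hLmin.prop.2.1, hLmin.prop.1, hLmin.prop.2.2, ?_⟩
    intro L' hL' hne hnor
    exact le_antisymm hL' (hLmin.le_of_le ⟨hne, hL'.trans hLmin.prop.2.1, hnor⟩ hL')
  have hLN := eq_of_isMinN h hN hN1 hNmin hLisMin
  have hNT : N ≤ T' := by rw [← hLN]; exact hLT
  rw [eq_top_iff]
  rintro ⟨n, hn⟩ -
  obtain ⟨t, ht, hte⟩ := hNT hn
  have : t = ⟨n, hn⟩ := Subtype.ext hte
  rw [← this]
  exact ht

end Cfsg.Agent.Lib.LocalEven.ZStar2
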